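import Mathlib.GroupTheory.Sylow
import Mathlib.FieldTheory.Finite.Basic
import Mathlib.LinearAlgebra.Matrix.Trace
import Mathlib.GroupTheory.Subgroup.Simple
import Mathlib.Tactic.NoncommRing

/-!
Products of two conjugacy classes contained in one class: the general framework.
-/

set_option autoImplicit false

namespace Cfsg.Agent.AH

open Matrix

section Grp

variable {G : Type*} [Group G]

/-- all products of a conjugate of `a` and a conjugate of `b` are conjugate to `c` -/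
def Hyp (a b c : G) : Prop := ∀ u v : G, IsConj c (u * a * u⁻¹ * (v * b * v⁻¹))

/-- neither a `p'`-element nor a `p`-element -/
def Mixed (p : ℕ) (c : G) : Prop := p ∣ orderOf c ∧ ¬ ∃ k, orderOf c = p ^ k

/-- the property to be proved for every family -/
def Mix (p : ℕ) (G : Type*) [Group G] : Prop :=
  ∀ a b c : G, a ≠ 1 → b ≠ 1 → c ≠ 1 → Hyp a b c → Mixed p c ∧ (p ∣ orderOf a ∨ p ∣ orderOf b)

theorem Hyp.conj {a b c x y : G} (h : Hyp a b c) (hx : IsConj a x) (hy : IsConj b y) : IsConj c (x * y) := by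
  obtain ⟨u, rfl⟩ := isConj_iff.1 hx
  obtain ⟨v, rfl⟩ := isConj_iff.1 hy
  exact h u v

theorem hyp_iff {a b c : G} : Hyp a b c ↔ ∀ x y, IsConj a x → IsConj b y → IsConj c (x * y) :=
  ⟨fun h _ _ => h.conj, fun h u v => h _ _ (isConj_iff.2 ⟨u, rfl⟩) (isConj_iff.2 ⟨v, rfl⟩)⟩

theorem Hyp.symm {a b c : G} (h : Hyp a b c) : Hyp b a c := hyp_iff.2 fun x y hx hy =>
  (h.conj hy hx).trans (isConj_iff.2 ⟨x, by group⟩)

theorem Hyp.of_conj {a b c a' b' : G} (h : Hyp a b c) (ha : IsConj a a') (hb : IsConj b b') : Hyp a' b' c :=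
  hyp_iff.2 fun _ _ hx hy => h.conj (ha.trans hx) (hb.trans hy)

theorem Hyp.map {G' : Type*} [Group G'] (e : G ≃* G') {a b c : G} (h : Hyp a b c) : Hyp (e a) (e b) (e c) :=
  fun u v => by
    obtain ⟨u, rfl⟩ := e.surjective u
    obtain ⟨v, rfl⟩ := e.surjective v
    simpa using e.toMonoidHom.map_isConj (h u v)

theorem orderOf_of_isConj {x y : G} (h : IsConj x y) : orderOf x = orderOf y := by
  obtain ⟨u, rfl⟩ := isConj_iff.1 h
  exact ((MulAut.conj u).orderOf_eq x).symm

theorem Mixed.of_conj {p : ℕ} {x y : G} (h : IsConj x y) (hy : Mixed p y) : Mixed p x := by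
  unfold Mixed at *
  rwa [orderOf_of_isConj h]

theorem Mix.congr {p : ℕ} {G' : Type*} [Group G'] (h : Mix p G') (e : G ≃* G') : Mix p G := by
  intro a b c ha hb hc H
  have := h (e a) (e b) (e c) (by simpa using ha) (by simpa using hb) (by simpa using hc) (H.map e)
  simpa only [Mixed, e.orderOf_eq] using this

theorem Hyp.not_inv {a b c : G} (h : Hyp a b c) (hc : c ≠ 1) (hab : IsConj b a⁻¹) : False :=
  hc (isConj_one_left.1 (by simpa using h.conj (IsConj.refl a) hab))

/-- a criterion for the whole property from the three separate exclusions -/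
theorem mix_of {p : ℕ} (h1 : ∀ a b c : G, a ≠ 1 → b ≠ 1 → c ≠ 1 → Hyp a b c → p ∣ orderOf c)
    (h2 : ∀ a b c : G, a ≠ 1 → b ≠ 1 → c ≠ 1 → Hyp a b c → ¬ ∃ k, orderOf c = p ^ k)
    (h3 : ∀ a b c : G, a ≠ 1 → b ≠ 1 → c ≠ 1 → Hyp a b c → p ∣ orderOf a ∨ p ∣ orderOf b) : Mix p G :=
  fun a b c ha hb hc H => ⟨⟨h1 a b c ha hb hc H, h2 a b c ha hb hc H⟩, h3 a b c ha hb hc H⟩

theorem final [Finite G] {p : ℕ} [Fact p.Prime] (hG : Mix p G) (a b c : G) (ha : a ≠ 1) (hb : b ≠ 1) (hc : c ≠ 1)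
    (h : {g : G | ∃ u v : G, g = (u * a * u⁻¹) * (v * b * v⁻¹)} = {g : G | IsConj c g}) :
    p ∣ orderOf c ∧ (¬ ∃ k : ℕ, orderOf c = p ^ k) ∧ (p ∣ orderOf a ∨ p ∣ orderOf b) ∧
      ((¬ ∃ k : ℕ, orderOf a = p ^ k) ∨ (¬ ∃ k : ℕ, orderOf b = p ^ k)) := by
  have H : Hyp a b c := fun u v => by
    have : u * a * u⁻¹ * (v * b * v⁻¹) ∈ {g : G | IsConj c g} := h ▸ ⟨u, v, rfl⟩
    exact this
  obtain ⟨⟨h1, h2⟩, h3⟩ := hG a b c ha hb hc H
  refine ⟨h1, h2, h3, ?_⟩
  by_contra h4
  rw [not_or, not_not, not_not] at h4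
  have key : ∀ x : G, (∃ k, orderOf x = p ^ k) → ∃ P : Sylow p G, x ∈ P := fun x ⟨k, hk⟩ => by
    have : IsPGroup p (Subgroup.zpowers x) := IsPGroup.of_card (by rw [Nat.card_zpowers, hk])
    obtain ⟨P, hP⟩ := this.exists_le_sylow
    exact ⟨P, hP (Subgroup.mem_zpowers x)⟩
  obtain ⟨P, hP⟩ := key a h4.1
  obtain ⟨Q, hQ⟩ := key b h4.2
  obtain ⟨g, rfl⟩ := MulAction.exists_smul_eq G Q P
  have h5 : g * b * g⁻¹ ∈ (g • Q : Sylow p G) := by
    rw [← SetLike.mem_coe, Sylow.coe_smul]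
    exact ⟨b, hQ, rfl⟩
  have h6 := H.conj (IsConj.refl a) (isConj_iff.2 ⟨g, rfl⟩)
  obtain ⟨k, hk⟩ := IsPGroup.iff_orderOf.1 (g • Q : Sylow p G).isPGroup' ⟨_, mul_mem hP h5⟩
  exact h2 ⟨k, by rw [orderOf_of_isConj h6, ← hk, Subgroup.orderOf_mk]⟩

/-- two classes of involutions with a commuting pair commute elementwise -/
theorem Hyp.commute {a b c : G} (h : Hyp a b c) (ha : a * a = 1) (hb : b * b = 1) (hab : a * b = b * a)
    {x y : G} (hx : IsConj a x) (hy : IsConj b y) : x * y = y * x := by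
  have sq : ∀ {a x : G}, a * a = 1 → IsConj a x → x * x = 1 := fun {a x} ha hx => by
    obtain ⟨u, rfl⟩ := isConj_iff.1 hx
    calc u * a * u⁻¹ * (u * a * u⁻¹) = u * (a * a) * u⁻¹ := by group
      _ = 1 := by rw [ha]; group
  have h1 : a * b * (a * b) = 1 := by
    calc a * b * (a * b) = a * (b * a) * b := by group
      _ = (a * a) * (b * b) := by rw [← hab]; group
      _ = 1 := by rw [ha, hb, mul_one]
  have h2 := sq h1 ((h.conj (IsConj.refl a) (IsConj.refl b)).symm.trans (h.conj hx hy))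
  have e1 := inv_eq_of_mul_eq_one_right (sq ha hx)
  have e2 := inv_eq_of_mul_eq_one_right (sq hb hy)
  rw [← inv_eq_of_mul_eq_one_right h2, _root_.mul_inv_rev, e1, e2]

/-- two involutions whose product has odd order are conjugate -/
theorem isConj_of_odd {x y : G} (hx : x * x = 1) (hy : y * y = 1) (h : Odd (orderOf (x * y))) : IsConj y x := by
  obtain ⟨m, hm⟩ := h
  have e1 := inv_eq_of_mul_eq_one_right hx
  have e2 := inv_eq_of_mul_eq_one_right hy
  have h0 : (x * y) ^ (2 * m + 1) = 1 := hm ▸ pow_orderOf_eq_one _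
  have h1 : y * (x * y) * y⁻¹ = (x * y)⁻¹ := by
    rw [_root_.mul_inv_rev, e1, e2, mul_assoc, mul_assoc, hy, mul_one]
  have h2 : y * (x * y) ^ (m + 1) * y⁻¹ = ((x * y) ^ (m + 1))⁻¹ := by rw [← conj_pow, h1, inv_pow]
  refine isConj_iff.2 ⟨(x * y) ^ (m + 1), ?_⟩
  rw [← h2, e2]
  calc (x * y) ^ (m + 1) * y * (y * (x * y) ^ (m + 1) * y) = (x * y) ^ (m + 1) * (y * y) * (x * y) ^ (m + 1) * y := by
        simp only [mul_assoc]
    _ = (x * y) ^ (2 * m + 1) * (x * y) * y := by
        rw [hy, mul_one, ← pow_add, ← pow_succ]; congr 2; ring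
    _ = x := by rw [h0, one_mul, mul_assoc, hy, mul_one]

/-- two classes of involutions: the product has even order -/
theorem Hyp.even [Finite G] {a b c : G} (h : Hyp a b c) (hc : c ≠ 1) (ha : a * a = 1) (hb : b * b = 1) :
    2 ∣ orderOf c := by
  by_contra h2
  have h3 : Odd (orderOf (a * b)) := by
    rw [← orderOf_of_isConj (h.conj (IsConj.refl a) (IsConj.refl b))]
    exact Nat.odd_iff.2 (by omega)
  exact h.not_inv hc (by rw [inv_eq_of_mul_eq_one_right ha]; exact isConj_of_odd ha hb h3)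

/-- order of a product of commuting elements of coprime orders `p ^ i`, `m` -/
theorem mixed_of_commute [Finite G] {p : ℕ} [hp : Fact p.Prime] {u s : G} (h : Commute u s) (hu : u ≠ 1) (hs : s ≠ 1)
    {k m : ℕ} (hk : u ^ p ^ k = 1) (hm : s ^ m = 1) (hpm : ¬ p ∣ m) : Mixed p (u * s) := by
  have c0 : Nat.Coprime (p ^ k) m := Nat.Coprime.pow_left _ ((Nat.Prime.coprime_iff_not_dvd hp.out).2 hpm)
  have d1 := orderOf_dvd_of_pow_eq_one hk
  have d2 := orderOf_dvd_of_pow_eq_one hm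
  have e := h.orderOf_mul_eq_mul_orderOf_of_coprime ((c0.coprime_dvd_left d1).coprime_dvd_right d2)
  obtain ⟨i, -, hi⟩ := (Nat.dvd_prime_pow hp.out).1 d1
  constructor
  · rw [e, hi]
    refine Dvd.dvd.mul_right (dvd_pow_self _ ?_) _
    rintro rfl
    exact hu (orderOf_eq_one_iff.1 (by simpa using hi))
  · rintro ⟨j, hj⟩
    have d3 : orderOf s ∣ p ^ j := hj ▸ e ▸ Dvd.intro_left _ rfl
    obtain ⟨l, -, hl⟩ := (Nat.dvd_prime_pow hp.out).1 d3
    rcases Nat.eq_zero_or_pos l with rfl | h0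
    · exact hs (orderOf_eq_one_iff.1 (by simpa using hl))
    · exact hpm ((dvd_pow_self p h0.ne').trans (hl ▸ d2))

end Grp

section Tr

variable {G : Type*} [Group G] {R : Type*} [CommRing R] {n : Type*} [Fintype n] [DecidableEq n]
  {ρ : G →* Matrix n n R} {b : G}

/-- `tr (M ρ(y)) = τ` for all conjugates `y` of `b` -/
def Val (ρ : G →* Matrix n n R) (b : G) (M : Matrix n n R) (τ : R) : Prop :=
  ∀ y, IsConj b y → (M * ρ y).trace = τ

theorem trace_of_isConj (ρ : G →* Matrix n n R) {x y : G} (h : IsConj x y) : (ρ y).trace = (ρ x).trace := by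
  obtain ⟨u, rfl⟩ := isConj_iff.1 h
  rw [map_mul, map_mul, trace_mul_comm, ← mul_assoc, ← map_mul, inv_mul_cancel, map_one, one_mul]

theorem Hyp.val (ρ : G →* Matrix n n R) {a c x : G} (h : Hyp a b c) (hx : IsConj a x) :
    Val ρ b (ρ x) (ρ c).trace := fun y hy => by
  rw [← map_mul]
  exact trace_of_isConj ρ (h.conj hx hy)

theorem Val.conj {M : Matrix n n R} {τ : R} (h : Val ρ b M τ) (g : G) : Val ρ b (ρ g * M * ρ g⁻¹) τ := fun y hy => by
  rw [← h (g⁻¹ * y * g) (hy.trans (isConj_iff.2 ⟨g⁻¹, by group⟩)), mul_assoc, mul_assoc, trace_mul_comm,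
    map_mul, map_mul]
  simp only [mul_assoc]

theorem Val.add {M N : Matrix n n R} {τ υ : R} (h : Val ρ b M τ) (h' : Val ρ b N υ) : Val ρ b (M + N) (τ + υ) :=
  fun y hy => by rw [add_mul, trace_add, h y hy, h' y hy]

theorem Val.sub {M N : Matrix n n R} {τ υ : R} (h : Val ρ b M τ) (h' : Val ρ b N υ) : Val ρ b (M - N) (τ - υ) :=
  fun y hy => by rw [sub_mul, trace_sub, h y hy, h' y hy]

theorem Val.smul {M : Matrix n n R} {τ : R} (h : Val ρ b M τ) (c : R) : Val ρ b (c • M) (c * τ) :=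
  fun y hy => by rw [smul_mul_assoc, trace_smul, h y hy, smul_eq_mul]

theorem Val.sum {J : Type*} (s : Finset J) {M : J → Matrix n n R} {τ : J → R} (h : ∀ j ∈ s, Val ρ b (M j) (τ j)) :
    Val ρ b (∑ j ∈ s, M j) (∑ j ∈ s, τ j) :=
  fun y hy => by rw [Finset.sum_mul, trace_sum]; exact Finset.sum_congr rfl fun j hj => h j hj y hy

/-- the operator `Ad g - 1` -/
theorem Val.diff {M : Matrix n n R} {τ : R} (h : Val ρ b M τ) (g : G) : Val ρ b (ρ g * M * ρ g⁻¹ - M) 0 :=
  sub_self τ ▸ (h.conj g).sub h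

/-- coefficient extraction: a function `t ↦ c₀ + ∑ t ^ e j • c j` that is constant on a finite field -/
theorem coeff_zero {k : Type*} [Field k] [Fintype k] (ι : k →+* R) {V : Type*} [AddCommGroup V] [Module R V]
    {J : Type*} (s : Finset J) (e : J → ℕ) (c : J → V)
    (h : ∀ t : k, t ≠ 0 → ∑ j ∈ s, ι t ^ e j • c j = 0) (m : ℕ) :
    ∑ j ∈ s with (Fintype.card k - 1) ∣ e j + m, c j = 0 := by
  classical
  have h1 : ∑ t : kˣ, ι t ^ m • ∑ j ∈ s, ι t ^ e j • c j = 0 :=
    Finset.sum_eq_zero fun t _ => by rw [h t t.ne_zero, smul_zero]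
  have h2 : ∀ j, ∑ t : kˣ, ι t ^ m • ι t ^ e j • c j = if (Fintype.card k - 1) ∣ e j + m then -c j else 0 := fun j => by
    have := congrArg ι (FiniteField.sum_pow_units k (e j + m))
    rw [map_sum] at this
    simp only [smul_smul, ← Finset.sum_smul, ← pow_add, add_comm m]
    simp only [map_pow] at this
    rw [this]
    split_ifs <;> simp
  simp only [Finset.smul_sum] at h1
  rw [Finset.sum_comm] at h1
  simp only [h2] at h1
  rw [← Finset.sum_filter, Finset.sum_neg_distrib, neg_eq_zero] at h1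
  exact h1

/-- the averaging operator `∑ t ^ m Ad x(t)`: if `C₀ + ∑ t ^ e j • C j` has the same value as `C₀` for all
`t ≠ 0`, the sum of the coefficients with `e j + m ≡ 0 (mod q - 1)` has value `0` -/
theorem Val.coeff {k : Type*} [Field k] [Fintype k] (ι : k →+* R) {J : Type*} (s : Finset J) (e : J → ℕ)
    (C : J → Matrix n n R) (h : ∀ t : k, t ≠ 0 → Val ρ b (∑ j ∈ s, ι t ^ e j • C j) 0) (m : ℕ) :
    Val ρ b (∑ j ∈ s with (Fintype.card k - 1) ∣ e j + m, C j) 0 := fun y hy => by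
  rw [Finset.sum_mul, trace_sum]
  refine coeff_zero ι s e (fun j => (C j * ρ y).trace) (fun t ht => ?_) m
  rw [← h t ht y hy, Finset.sum_mul, trace_sum]
  simp only [smul_mul_assoc, trace_smul]

/-- a rank-one matrix of value `0` gives a vanishing matrix coefficient -/
theorem Val.single {i j : n} {c : R} (h : Val ρ b (Matrix.single i j c) 0) {y : G} (hy : IsConj b y) :
    c * ρ y j i = 0 := by
  rw [← h y hy, Matrix.trace_single_mul, smul_eq_mul]

end Tr

section Fil

variable {R : Type*} [CommRing R] {n : Type*}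

/-- `M` raises the degree `d` by at least `k` -/
def Fil (d : n → ℤ) (k : ℤ) (M : Matrix n n R) : Prop := ∀ i j, d i - d j < k → M i j = 0

variable {d : n → ℤ} {k l : ℤ} {M N : Matrix n n R}

theorem Fil.mono (h : Fil d k M) (hl : l ≤ k) : Fil d l M := fun i j hij => h i j (by omega)

theorem Fil.zero : Fil d k (0 : Matrix n n R) := fun _ _ _ => rfl

theorem Fil.add (h : Fil d k M) (h' : Fil d k N) : Fil d k (M + N) := fun i j hij => by
  rw [Matrix.add_apply, h i j hij, h' i j hij, add_zero]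

theorem Fil.sub (h : Fil d k M) (h' : Fil d k N) : Fil d k (M - N) := fun i j hij => by
  rw [Matrix.sub_apply, h i j hij, h' i j hij, sub_zero]

theorem Fil.neg (h : Fil d k M) : Fil d k (-M) := fun i j hij => by rw [Matrix.neg_apply, h i j hij, neg_zero]

theorem Fil.smul (h : Fil d k M) (c : R) : Fil d k (c • M) := fun i j hij => by
  rw [Matrix.smul_apply, h i j hij, smul_zero]

theorem Fil.sum {J : Type*} (s : Finset J) {M : J → Matrix n n R} (h : ∀ j ∈ s, Fil d k (M j)) :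
    Fil d k (∑ j ∈ s, M j) := fun i j hij => by
  rw [Matrix.sum_apply]
  exact Finset.sum_eq_zero fun a ha => h a ha i j hij

theorem Fil.mul [Fintype n] (h : Fil d k M) (h' : Fil d l N) : Fil d (k + l) (M * N) := fun i j hij => by
  rw [Matrix.mul_apply]
  refine Finset.sum_eq_zero fun a _ => ?_
  by_cases h1 : d i - d a < k
  · rw [h i a h1, zero_mul]
  · rw [h' a j (by omega), mul_zero]

theorem Fil.one [DecidableEq n] : Fil d 0 (1 : Matrix n n R) := fun i j hij =>
  Matrix.one_apply_ne (by rintro rfl; omega)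

theorem Fil.eq_zero (h : Fil d k M) (hk : ∀ i j, d i - d j < k) : M = 0 := by
  ext i j
  exact h i j (hk i j)

theorem Fil.of_bound (M : Matrix n n R) (hk : ∀ i j, k ≤ d i - d j) : Fil d k M := fun i j h =>
  absurd (hk i j) (by omega)

/-- `(1 + A) M (1 + B) - M` raises the degree -/
theorem Fil.diff [Fintype n] [DecidableEq n] {g g' : Matrix n n R} (h : Fil d k M) (hl : 0 ≤ l) (hg : Fil d l (g - 1))
    (hg' : Fil d l (g' - 1)) : Fil d (k + l) (g * M * g' - M) := by
  have e : g * M * g' - M = (g - 1) * M + M * (g' - 1) + (g - 1) * M * (g' - 1) := by noncomm_ring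
  rw [e]
  exact (((hg.mul h).mono (by omega)).add (h.mul hg')).add (((hg.mul h).mul hg').mono (by omega))

end Fil

end Cfsg.Agent.AH
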