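import Cfsg.Agent.AH.F4s
import Cfsg.Agent.AH.SL

/-! The group `F₄(2)`. -/

set_option autoImplicit false

namespace Cfsg.Agent.AH

open Cfsg.Lie Cfsg.Lie.ChevalleyDatum Cfsg.Agent.Chev Cfsg.Agent.Tw Matrix Equiv

namespace F42

open F4

variable {F : Type*} [Field F] [CharP F 2] {G : Type*} [Group G] {S : Sys certF4 F G} {a z : G}

/-- the symmetry relations -/
def Sy (S : Sys certF4 F G) (a : G) : Prop := ∀ x, Cj ⊤ a x → ∀ r s, certF4.len r = certF4.len certF4.top →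
  certF4.len s = certF4.len certF4.top → certF4.A r s = 0 ∨ certF4.A r s = 1 → β S x (eR F r) (eR F s) = 0

theorem unit1 {c : ℤ} (h : c = 1 ∨ c = -1) : (c : F) = 1 := by rcases h with rfl | rfl <;> simp [CharTwo.neg_eq]

theorem rad {s : Rt chevF4} (h : certF4.len s ≠ certF4.len certF4.top) : (mu certF4 s : F) = 0 := by
  rw [(by decide +kernel : ∀ s, certF4.len s ≠ certF4.len certF4.top → mu certF4 s = 2) s h]
  exact_mod_cast two_zero

theorem β_short (x : G) (u : chevF4.Idx → F) {s : Rt chevF4} (h : certF4.len s ≠ certF4.len certF4.top) (c : F) :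
    β S x u (c • eR F s) = 0 := by
  simp only [β_eq, Md.κ_smul_right, (ad S).κ_comm _ (eR F s), κ_eR, rad h, zero_mul, mul_zero, add_zero]

/-- the action of a short root element on a long root vector -/
def Tw2 (d g e h : Rt chevF4) : Prop := g ≠ d.rev ∧ certF4.rc e = certF4.rc d + certF4.rc g ∧
  certF4.rc h = (2 : ℤ) • certF4.rc d + certF4.rc g ∧ certF4.M d g 3 = 0 ∧
  (certF4.M d g 2 = 1 ∨ certF4.M d g 2 = -1) ∧ certF4.len e ≠ certF4.len certF4.top

theorem Tw2.eq {d g e h : Rt chevF4} (H : Tw2 d g e h) : ∃ c : F,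
    S.φ (S.x d 1) *ᵥ eR F g = eR F g + c • eR F e + eR F h :=
  ⟨_, by rw [x_eR_two H.1 H.2.1 H.2.2.1 H.2.2.2.1, unit1 H.2.2.2.2.1, one_pow, one_mul, one_smul]⟩

variable (hF : ∀ t : F, t = 0 ∨ t = 1) (hφ : Function.Injective S.φ)
include hF hφ

theorem q2 : Q2 (Stb.one S) ⊤ (nd 3) (rt 46) where
  toOk := ok_one hφ
  two _ _ t := by simpa using hF t
  fθ := rfl
  fα := ⟨rfl, by decide +kernel⟩
  th := by decide +kernel
  lev := by decide +kernel
  rad _ := rad
  low := by decide +kernel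
  conn := by decide +kernel
  step N h1 h0 j hj r h5 h2 h3 h4 := by
    have h6 := h1 (S.x (certF4.sp j) 1) trivial (S.x_mem_U (by exact ⟨certF4.pos_sp j, certF4.inJ_sp.2 hj⟩) 1) _ h4
    rcases (by unfold Tw2; decide +kernel : ∀ j r, certF4.len r = certF4.len certF4.top → certF4.A certF4.top r = 1 →
      certF4.A (certF4.sp j) r < 0 → certF4.len (certF4.sp j) = certF4.len certF4.top ∧ certF4.A (certF4.sp j) r = -1 ∨
        certF4.A (certF4.sp j) r = -2 ∧ ∃ e h, Tw2 (certF4.sp j) r e h) j r h5 h2 h3 with ⟨b1, b2⟩ | ⟨b1, e, h, b2⟩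
    · rwa [x_eR2 b1 b2, one_smul, N.add_mem_iff_right h4] at h6
    · obtain ⟨c, hc⟩ := b2.eq (S := S)
      rwa [hc, N.add_mem_iff_right (N.add_mem h4 (N.smul_mem _ (h0 e b2.2.2.2.2.2))),
        show h = _ from certF4.rc_inj (by rw [certF4.rc_refl, b1, b2.2.2.1]; module)] at h6

omit hφ in
theorem ov {m : G} {w : Perm (Rt chevF4)} (h : S.Over m w) (r : Rt chevF4) : S.φ m *ᵥ eR F r = eR F (w r) := by
  obtain ⟨c, hc⟩ := over_eR h r
  rw [hc, (hF c).resolve_left c.ne_zero, one_smul]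

theorem struct (hs : Sy S a) (hd : ¬ Dm (ad S) ⊤ a (eR F certF4.top)) : ∃ s z, (s = 0 ∨ s = 1) ∧ Sp S ⊤ (nd 3) a s z := by
  have Q := q2 hF hφ
  refine Q.struct trivial (fun x hx => hs x hx _ _ rfl Q.len' (Or.inr Q.lev')) hd fun z _ hz q hq hx h1 r h2 h3 => ?_
  have h4 : q ∈ S.U {s | certF4.A certF4.top s = 1 ∧ certF4.len s ≠ certF4.len certF4.top ∨ s = certF4.top} :=
    mem_U_of_cd (f := certF4.prL certF4.top) one_pos (Cert.closed_ge _ zero_le_one) (fun _ h => h)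
      (S.U_mono (fun s hs => by exact hs.2.trans_eq (certF4.prL_rc _ s).symm) hq) fun s h5 h6 => by
        rw [Set.mem_ofPred_eq, not_or, not_and, not_not] at h6
        rw [Set.mem_ofPred_eq, Cert.prL_rc] at h5
        have := (certF4.A_top_le_one h6.2).antisymm h5
        exact ⟨by rw [Cert.prL_rc]; omega, h1 s (h6.1 this) this⟩
  obtain ⟨g, b1, b2, b3, b4, b5⟩ := (by decide +kernel : ∀ r, certF4.len r ≠ certF4.len certF4.top →
    certF4.A certF4.top r = 1 → ∃ g, certF4.len g = certF4.len certF4.top ∧ certF4.A certF4.top g = 0 ∧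
      certF4.rc certF4.top = certF4.rc g + (2 : ℤ) • certF4.rc r ∧ (Xf chevF4 r 2 (.inr certF4.top) (.inr g) = 1 ∨
      Xf chevF4 r 2 (.inr certF4.top) (.inr g) = -1) ∧ ∀ s, certF4.A certF4.top s = 1 ∧
        certF4.len s ≠ certF4.len certF4.top ∨ s = certF4.top → s ≠ r →
          1 < 3 * certF4.A certF4.top s - certF4.A r s) r h2 h3
  have h5 := hs _ hx _ g rfl b1 (Or.inl b2)
  have e2 := ent_sq' (ad S) (f := (3 : ℤ) • certF4.prL certF4.top - certF4.prL r) (a := .inr certF4.top) (b := .inr g)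
    one_pos (by unfold Cert.Closed Cert.Stab; decide +kernel) (r := r) (by simp [Cert.prL_rc, Cert.A_self, h3])
    (fun s hs h => by simpa [Cert.prL_rc] using b5 s hs h) h4 b3
  obtain ⟨-, c2, -, c4⟩ := Q.comm Q.fx Q.lev0 trivial hz
  rw [β, B_def, B_def, φ_mul _ q, φ_mul _ q, U_fix (fun r hr => x_fix' rfl (zero_le_one.trans hr.2)) hq,
    φ_mul _ z (eR F certF4.top), c4, n_eR2, Cert.refl_self, κ_ee, if_neg (by
      rintro e; rw [← Fin.rev_injective e, Cert.A_self] at b2; omega), add_zero, ← c2.eq, κ_φ', _root_.mul_inv_rev, φ_mul,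
      (Q.comm Q.fx Q.lev0 trivial (inv_mem hz)).2.2.2, n_inv, n_eR2, Cert.refl_self, ← B_def, B_eR, Fin.rev_rev,
      show S.φ q _ _ = _ from e2, show (ad S).X r 2 _ _ = ((certF4.X r 2 _ _ : ℤ) : F) from rfl, X_eq_Xf certF4 r 1,
      unit1 b4, mu_rev, mu_long certF4 rfl] at h5
  simpa using h5

theorem not_one (hs : Sy S a) (h : Sp S ⊤ (nd 3) a 1 z) : False := by
  have Q := q2 hF hφ
  obtain ⟨g, hg, hgL, J, m, v, hm, e⟩ := exists_max Q.toOk.bn Q.stab h.mem h.lev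
  have hx := (e ▸ Q.sp_conj h hg hgL).cj
  have hv := S.U_mono (T' := {r | certF4.Pos r ∧ certF4.InJ {j | j ≠ nd 3} r}) (fun r hr => ⟨hr.1, hr.2.1⟩) hm.vU
  have hL := mul_mem (hm.ov.mem_L hm.memW) (U_pos_le_L _ hv)
  have k : ∀ {x}, Cj ⊤ a x → ∀ r s, certF4.len r = certF4.len certF4.top ∧ certF4.len s = certF4.len certF4.top ∧
      (certF4.A r s = 0 ∨ certF4.A r s = 1) → β S x (eR F r) (eR F s) = 0 := fun hx r s h => hs _ hx r s h.1 h.2.1 h.2.2
  by_cases h2 : nd 2 ∈ J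
  · have h3 : ∀ r, r = rt 25 ∨ r = (rt 25).rev → (ad S).B (S.n certF4.top 1 * S.x certF4.top 1 * (m * v)) (eR F r)
        (eR F r.rev) = 1 := fun r hr => by
      have h4 : (certF4.w0 {j | j ≠ nd 3} * certF4.w0 J) r = r := by
        have := hm.fix Stb.sep_one _ h2
        rcases hr with rfl | rfl
        exacts [this, by rw [Cert.Aut.map_rev hm.ov.mem_Aut]; exact congrArg Fin.rev this]
      obtain ⟨b1, b2⟩ : certF4.A certF4.top r = 0 ∧ certF4.len r = certF4.len certF4.top := by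
        rcases hr with rfl | rfl <;> decide +kernel
      rw [B_def, φ_mul, φ_mul m, κ_φ', κ_φ' m, ← g3, SL_fix rfl b1 (inv_mem (g3_mem_SL _)), ov hF hm.ov.inv, hm.inv, h4,
        ← B_def, B_eR, mu_long _ b2, show S.φ v _ _ = 1 from (ad S).diag_Up hm.vUp _, Int.cast_one, mul_one]
    obtain ⟨c, hc⟩ := Tw2.eq (S := S) (d := rt 39) (g := certF4.top.rev) (e := rt 9) (h := rt 25)
      (by unfold Tw2; decide +kernel)
    obtain ⟨c', hc'⟩ := Tw2.eq (S := S) (d := rt 39) (g := (rt 25).rev) (e := rt 38) (h := certF4.top)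
      (by unfold Tw2; decide +kernel)
    have h5 := k (hx.conj' (g := S.x (rt 39) 1) trivial) certF4.top.rev (rt 25).rev (by decide +kernel)
    have h6 := h3 _ (Or.inr rfl)
    rw [Fin.rev_rev] at h6
    rw [β_conj, hc, hc', β_add, β_add, β_short _ _ (s := rt 38) (by decide +kernel), β_add', β_add', β_add', β_add',
      β_comm _ (c • _), β_comm _ (c • _), β_short _ _ (s := rt 9) (by decide +kernel),
      β_short _ _ (s := rt 9) (by decide +kernel), k hx certF4.top.rev (rt 25).rev (by decide +kernel),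
      k hx (rt 25) certF4.top (by decide +kernel), β, β, h3 _ (Or.inl rfl), h6, B_def, B_def, φ_mul, φ_mul _ (m * v),
      (Q.comm Q.fx Q.lev0 trivial hL).2.2.2, (Q.comm Q.fx.rev (fun j hj => by
        rw [Cert.A_rev_left, Q.lev0 j hj, neg_zero]) trivial hL).2.2.2, φ_mul, φ_mul, x_eR_self, x_eR_rev, κ_φ', κ_φ',
      n_inv, n_eR2, n_eR2, Cert.refl_self, Cert.refl_self_rev] at h5
    simp [Md.κ_add_right, Md.κ_sub_right, κ_ee, κ_eh, mu_rev, mu_long, CharTwo.add_self_eq_zero,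
      (certF4.rev_ne certF4.top), (certF4.rev_ne certF4.top).symm] at h5
  · have h3 : ∀ r, r = rt 46 ∨ r = rt 24 → certF4.w0 J r = r := fun r hr => Cert.fix_of_mem_WJ (fun j hj =>
      (by decide +kernel : ∀ j, j ≠ nd 3 → j ≠ nd 2 → ∀ r, r = rt 46 ∨ r = rt 24 → certF4.A (certF4.sp j) r = 0) j
        (hm.sub hj) (by rintro rfl; exact h2 hj) r hr) (certF4.w0_mem J)
    have hA := certF4.w0_mem_Aut {j | j ≠ nd 3}
    have h4 : certF4.w0 {j | j ≠ nd 3} (rt 46) = rt 24 := Q.low _ (by rw [Cert.Aut.len_map hA, Q.len']) (by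
      rw [← certF4.prL_rc, Cert.Aut.rc_map hA, ← Q.lev', ← certF4.prL_rc]
      exact LinearMap.congr_fun (Cert.comp_lin_WJ Q.lev0' (certF4.w0_mem _)) _) fun j hj => by
        obtain ⟨k, hk, e⟩ := Cert.exists_w0_sp_J (C := certF4) (K := {j | j ≠ nd 3}) hj
        rw [← Cert.Aut.A_map hA, Cert.w0_w0, e, certF4.A_rev_left, neg_nonpos, certF4.A_nonneg_comm]
        exact Q.dom' k hk
    have h5 := k hx (rt 46) (rt 24).rev (by decide +kernel)
    have f : ∀ r, certF4.len r = certF4.len certF4.top ∧ (∀ s, certF4.A certF4.top s = 0 → 48 ≤ 2 * (s : ℕ) →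
        0 ≤ certF4.A r s) → S.φ v *ᵥ eR F r = eR F r := fun r hr =>
      U_fix (fun s hs => x_fix' hr.1 (hr.2 s (A_inJ Q.lev0 hs.2) ((certF4.pos_iff_val s).1 hs.1))) hv
    have rf : ∀ s u, certF4.rc u = certF4.rc s - certF4.A certF4.top s • certF4.rc certF4.top →
        certF4.refl certF4.top s = u := fun s u h => certF4.rc_inj ((certF4.rc_refl _ s).trans h.symm)
    rw [β, B_def, B_def, φ_mul, φ_mul m, φ_mul _ (m * v), φ_mul m, f _ (by decide +kernel), f _ (by decide +kernel),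
      ov hF hm.ov, ov hF hm.ov, Cert.Aut.map_rev hm.ov.mem_Aut, Perm.mul_apply, Perm.mul_apply, h3 _ (Or.inl rfl),
      h3 _ (Or.inr rfl), h4, ← h4, Cert.w0_w0, h4, φ_mul, φ_mul, x_fix rfl (r := rt 24) (by decide +kernel),
      x_eR2 rfl (r := (rt 46).rev) (by decide +kernel), κ_φ', κ_φ', n_inv, n_eR2, n_eR2,
      rf (rt 46) (rt 24).rev (by decide +kernel), rf (rt 24).rev (rt 46) (by decide +kernel),
      rf (rt 46).rev (rt 24) (by decide +kernel), one_smul, Md.κ_add_right, κ_ee, κ_ee, κ_ee] at h5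
    revert h5
    simp +decide [show mu certF4 (rt 24).rev = 1 by decide +kernel]

theorem main [Finite G] {b c : G} (H : HK ⊤ a b c) (ha : a ≠ 1) (hb : b ≠ 1) (hc : c ≠ 1) (h1 : Sy S a) (h2 : Sy S b)
    (h3 : ¬ Dm (ad S) ⊤ a (eR F certF4.top)) (h4 : ¬ Dm (ad S) ⊤ b (eR F certF4.top)) :
    Mixed 2 c ∧ (2 ∣ orderOf a ∨ 2 ∣ orderOf b) := by
  obtain ⟨s, z, rfl | rfl, h⟩ := struct hF hφ h1 h3
  swap
  · exact (not_one hF hφ h1 h).elim
  obtain ⟨s, z', rfl | rfl, h'⟩ := struct hF hφ h2 h4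
  swap
  · exact (not_one hF hφ h2 h').elim
  exact (q2 hF hφ).mix H trivial trivial ha hb hc (Or.inl rfl) (Or.inl rfl) h h' (fun e => absurd e zero_ne_one)
    fun e => absurd (e.elim id id) zero_ne_one

end F42

theorem mix_F42 {F : Type*} [Field F] [Finite F] (h : Nat.card F = 2) [CharP F 2] : Mix 2 (chevF4.group F) := by
  have hF : ∀ t : F, t = 0 ∨ t = 1 := fun t => by
    obtain ⟨y, -, e⟩ := (Nat.card_eq_two_iff' (0 : F)).1 h
    exact or_iff_not_imp_left.2 fun h0 => (e t h0).trans (e 1 one_ne_zero).symm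
  have key : ∀ {a b c : chevF4.group F}, HK ⊤ a b c → a ≠ 1 → b ≠ 1 → c ≠ 1 →
      ¬ (Dm (ad (certF4.sys F)) ⊤ a (eR F certF4.top) ∨ Dm (ad (certF4.sys F)) ⊤ b (eR F certF4.top)) →
      Mixed 2 c ∧ (2 ∣ orderOf a ∨ 2 ∣ orderOf b) := fun H ha hb hc h => by
    obtain ⟨h1, h2⟩ := not_or.1 h
    exact F42.main hF (certF4.sys_φ_inj F) H ha hb hc (fun _ hx _ _ => F4.splus H h1 h2 hx)
      (fun _ hx _ _ => F4.splus (H.symm trivial) h2 h1 hx) h1 h2
  refine MixK.top fun a _ b _ c _ ha hb hc H => by_contra fun h0 => ?_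
  have hτ := isogF4.τ_bij (F := F)
  refine f4_two H ha hb (by_contra fun h1 => h0 (key H ha hb hc h1)) (by_contra fun h1 => h0 ?_)
  simpa only [Mixed, orderOf_injective _ hτ.1] using key (c := isogF4.τ F c) (by
    rintro _ _ ⟨u, -, rfl⟩ ⟨v, -, rfl⟩
    obtain ⟨u, rfl⟩ := hτ.2 u
    obtain ⟨v, rfl⟩ := hτ.2 v
    obtain ⟨g, -, e⟩ := H _ _ (Cj.of (Subgroup.mem_top u) a) (Cj.of (Subgroup.mem_top v) b)
    exact ⟨isogF4.τ F g, trivial, by simpa using congrArg (isogF4.τ F) e⟩) ((map_ne_one_iff _ hτ.1).2 ha)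
    ((map_ne_one_iff _ hτ.1).2 hb) ((map_ne_one_iff _ hτ.1).2 hc) h1

end Cfsg.Agent.AH
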