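import Cfsg.Agent.AH.VGen

/-! The module of dimension 7 for type G2. -/

set_option autoImplicit false

namespace Cfsg.Agent.AH

open Cfsg.Lie Cfsg.Lie.ChevalleyDatum Cfsg.Agent.Chev Matrix

namespace VM

/-- one entry of a column -/
def slot (n : ℕ) [NeZero n] (e : ℕ) : List (Fin n × ℤ) :=
  bif Nat.beq e 0 then [] else [(Fin.ofNat n (e / 8), Int.subNatNat (e % 8) 4)]

/-- columns from a packed table -/
def colT (n : ℕ) [NeZero n] (tab r : ℕ) : ℕ → Fin n → List (Fin n × ℤ)
  | 0, b => [(b, 1)]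
  | 1, b => slot n (fld tab 8 255 (3 * (n * r + b.val))) ++ slot n (fld tab 8 255 (3 * (n * r + b.val) + 1))
  | 2, b => slot n (fld tab 8 255 (3 * (n * r + b.val) + 2))
  | _ + 3, _ => []

def tabColG2 : ℕ := nat_lit 0x2b00002300000000000000000000000000002d00000000001b00002a00000000000000000000002500001d2d003300002600000000000000002b00000023003300001500001e00000000002d0000001d003500000000000d00000000000000000000002500000000001500000000000000000000001d00000000000d00000000000000001600002500000015003500000000000500000000000a00001b0b003500000000000500000000000000000205003300001500000d00000000000000000000000000001500000000000300000000000000000000000000000b000003000000000000000000000000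

def tabWtG2 : ℕ := nat_lit 0x889a9989877776

def tabIxG2 : ℕ := nat_lit 0x5040300000201000000

def tabInvG2 : ℕ := nat_lit 0x90807040302

def tabOmG2 : ℕ := nat_lit 0x6888888888888988888788888988888988888788888988888

def tabEpsG2 : ℕ := nat_lit 0x999799997999

def tabRfG2 : ℕ := nat_lit 0x5030207010a040908060b06010408020b000903070a05010002040306050807090b0a050a070309000b02080401060b060809040a0107020305000a0b090708050603040200010a0b090708050603040200010b060809040a010702030500050a070309000b0208040106010002040306050807090b0a06010408020b000903070a050005030207010a040908060b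

/-- sparse columns -/
def colG2 : ℕ → ℕ → Fin 7 → List (Fin 7 × ℤ) := colT 7 tabColG2

/-- weights -/
def wtG2 (a : Fin 7) (i : ℕ) : ℤ := sfld tabWtG2 (2 * a.val + i)

/-- basis vector of a short root -/
def ixG2 (s : ℕ) : Fin 7 := Fin.ofNat 7 (fld tabIxG2 8 255 s)

/-- short root of a basis vector -/
def rtG2 (a : Fin 7) : Fin 12 := Fin.ofNat 12 (fld tabInvG2 8 255 a.val)

/-- the form -/
def omG2 (a b : Fin 7) : ℤ := sfld tabOmG2 (7 * a.val + b.val)

/-- signs -/
def epsG2 (s : ℕ) : ℤ := sfld tabEpsG2 s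

/-- reflections -/
def rfG2 (r s : ℕ) : ℕ := fld tabRfG2 8 255 (12 * r + s)

theorem addG2 : ∀ (r : Fin 12) b, addChk colG2 r b = true := by decide +kernel

/-- the check of all relations with first root `r` -/
noncomputable def ccG2 (r : ℕ) : Bool := allLt 12 fun s => bor (Nat.beq s r) <| bor (Nat.beq (s + r) 11) <|
  band (allL (chevG2.commTerms r s) fun w => Nat.blt w.1 12)
    (allLt 7 fun b => commChk colG2 r s (chevG2.commTerms r s) (Fin.ofNat 7 b))

theorem ccG2_0 : allLt 12 (fun k => ccG2 (0 + k)) = true := by decide +kernel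

theorem ccG2_all (r : ℕ) (h : r < 12) : ccG2 r = true := by
  obtain ⟨c, k, hc, hk, rfl⟩ : ∃ c k, c < 1 ∧ k < 12 ∧ r = 12 * c + k :=
    ⟨r / 12, r % 12, by omega, by omega, by omega⟩
  interval_cases c
  · exact allLt_spec ccG2_0 k hk

theorem nG2 : ∀ r s : Fin 12, lenG2 s = 1 → rfG2 r s < 12 ∧
    (∀ i : Fin 2, rcG2 (rfG2 r s) i = rcG2 s i - chevG2.pairing r s * rcG2 r i) ∧
    nChk colG2 r r.rev (ixG2 (rfG2 r s)) (ixG2 s) (-chevG2.pairing r s).toNat (chevG2.pairing r s).toNat = true := by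
  decide +kernel

theorem colwtG2 : ∀ (r : Fin 12) (k : Fin 2) b, ∀ p ∈ colG2 r (k + 1) b, ∀ i : Fin 2,
    wtG2 p.1 i = wtG2 b i + (k + 1) * rcG2 r i := by decide +kernel

theorem ominvG2 : ∀ (r : Fin 12) (k : Fin 2) a b, ((colG2 r (k + 1) a).map fun p => p.2 * omG2 p.1 b).sum =
    (-1) ^ (k.val + 1) * ((colG2 r (k + 1) b).map fun p => p.2 * omG2 a p.1).sum := by decide +kernel

theorem miscG2 : (∀ s : Fin 12, lenG2 s = 1 → (∀ i : Fin 2, wtG2 (ixG2 s) i = rcG2 s i) ∧
      ∀ b, omG2 (ixG2 s) b = if b = ixG2 s.rev then epsG2 s else 0) ∧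
    (∀ a, (lenG2 (rtG2 a) = 1 ∧ ixG2 (rtG2 a) = a) ∨ ∀ i : Fin 2, wtG2 a i = 0) ∧
    (∀ a b, omG2 a b = omG2 b a) ∧ ∀ s : Fin 12, epsG2 s = 1 ∨ epsG2 s = -1 := by decide +kernel

theorem len_oneG2 {s : Rt chevG2} : certG2.len s = 1 ↔ lenG2 s = 1 := by
  rw [certG2_len]; exact Nat.cast_eq_one

end VM

open VM

/-- the integral module of dimension 7 for type G2 -/
def vG2 : Vmod certG2 7 where
  col := colG2
  wt a i := wtG2 a i
  ix s := ixG2 s
  Om := omG2
  eps s := epsG2 s
  col_three _ _ _ := rfl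
  add_ok := addG2
  comm_ok r s h1 h2 := by
    have h := allLt_spec (ccG2_all r r.2) s s.2
    simp only [bor_eq, band_eq, Nat.beq_eq] at h
    rcases h with h | h | h
    · exact absurd (Fin.ext h) h1
    · exact absurd (Fin.ext (by rw [Fin.val_rev]; change s.val = 12 - (r.val + 1); omega)) h2
    · refine ⟨fun w hw => Nat.blt_eq.mp (allL_spec h.1 w hw), fun b => ?_⟩
      have := allLt_spec h.2 b b.2
      rwa [Fin.ofNat_val_eq_self] at this
  n_ok r s hs := by
    obtain ⟨h1, h2, h3⟩ := nG2 r s (len_oneG2.1 hs)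
    have : certG2.refl r s = ⟨rfG2 r s, h1⟩ := certG2.rc_inj (by
      rw [certG2.rc_refl]; exact funext fun i => (h2 i).symm)
    rw [this]
    exact ⟨_, _, h3⟩
  col_wt := colwtG2
  wt_ix s hs := funext (miscG2.1 s (len_oneG2.1 hs)).1
  ix_or a := (miscG2.2.1 a).imp (fun h => ⟨rtG2 a, len_oneG2.2 h.1, h.2⟩) funext
  Om_symm := miscG2.2.2.1
  Om_inv := ominvG2
  Om_ix s hs := (miscG2.1 s (len_oneG2.1 hs)).2
  eps_unit := miscG2.2.2.2
  genC := RGD.genC_G2
  cdet := rfl

/-- the module of dimension 7 for type G2 over a finite field -/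
noncomputable def mdG2 (F : Type*) [Field F] [Finite F] : Md (certG2.sys F) (Fin 7) := vG2.md F

theorem mdG2_col (F : Type*) [Field F] [Finite F] (r : Rt chevG2) : (mdG2 F).col r = colG2 r := rfl

theorem mdG2_wt (F : Type*) [Field F] [Finite F] (a : Fin 7) (i : Nd chevG2) : (mdG2 F).wt a i = wtG2 a i := rfl

end Cfsg.Agent.AH
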