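import Cfsg.Agent.AH.PE
import Cfsg.Agent.AH.VG2

/-! Kernel checks for the groups of type G2. -/

set_option autoImplicit false

namespace Cfsg.Agent.AH.G2

open Cfsg.Lie Cfsg.Lie.ChevalleyDatum Cfsg.Agent.Chev Matrix PE VM

/-- roots -/
def rt (k : Fin 12) : Rt chevG2 := k

/-- nodes -/
def nd (k : Fin 2) : Nd chevG2 := k

/-- columns of the module of dimension seven -/
def c7 (r : Rt chevG2) : ℕ → Fin 7 → List (Fin 7 × ℤ) := colG2 r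

/-- the word of `n_r(l)` -/
def nW (r : Rt chevG2) : List (Trm (Rt chevG2)) := [(r, 1, [1]), (r.rev, -1, [0, 1]), (r, 1, [1])]

/-- the word of `n_r(1)` -/
def n1 (r : Rt chevG2) : List (Trm (Rt chevG2)) := [(r, 1, []), (r.rev, -1, []), (r, 1, [])]

/-- a product of five root elements -/
def uW (r : Rt chevG2) : List (Trm (Rt chevG2)) := [(r, 1, [0, 0, 1]), (rt 8, 1, [0, 0, 0, 1]),
  (rt 9, 1, [0, 0, 0, 0, 1]), (rt 10, 1, [0, 0, 0, 0, 0, 1]), (rt 11, 1, [0, 0, 0, 0, 0, 0, 1])]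

def Wa : List (Trm (Rt chevG2)) := nW (rt 9) ++ uW (rt 7)

def Wb : List (Trm (Rt chevG2)) := nW (rt 11) ++ uW (rt 6)

def Xa : List (Trm (Rt chevG2)) := nW (rt 9) ++ [(rt 9, 1, [1])]

def Xb : List (Trm (Rt chevG2)) := nW (rt 11) ++ [(rt 11, -2, [1])]

def Ya : List (Trm (Rt chevG2)) := nW (rt 9) ++ (uW (rt 7)).drop 2

theorem a1 : entChk (adc chevG2) 0 (invW [(rt 10, 1, [])] ++ Wa ++ [(rt 10, 1, [])]) (.inr (rt 0).rev) (.inr (rt 0))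
    [(1, [0, 0, 0, 3])] = true := by decide +kernel

theorem a2 : entChk (adc chevG2) 0 (invW [(rt 11, 1, [])] ++ Wa ++ [(rt 11, 1, [])]) (.inr (rt 1).rev) (.inr (rt 1))
    [(-1, [0, 0, 3])] = true := by decide +kernel

theorem a3 : entChk (adc chevG2) 0 (invW [(rt 8, 1, [0, 0, 0, 0, 0, 0, 0, 1])] ++ Ya ++ [(rt 8, 1, [0, 0, 0, 0, 0, 0, 0, 1])]) (.inr (rt 0).rev) (.inr (rt 0))
    [(1, [0, 0, 0, 0, 0, 1, 0, 3]), (3, [1, 0, 0, 0, 1, 0, 0, 2]), (-3, [2, 0, 0, 0, 0, 0, 0, 2])] = true := by decide +kernel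

theorem a4 : entChk (adc chevG2) 0 (invW [(rt 7, 1, [0, 0, 0, 0, 0, 0, 0, 1])] ++ Ya ++ [(rt 7, 1, [0, 0, 0, 0, 0, 0, 0, 1])]) (.inr (rt 1).rev) (.inr (rt 1))
    [(-1, [0, 0, 0, 0, 0, 0, 1, 3]), (3, [1, 0, 0, 0, 1, 0, 0, 2]), (-3, [2, 0, 0, 0, 0, 0, 0, 2])] = true := by decide +kernel

theorem a5 : entChk (adc chevG2) 0 (invW [(rt 10, 1, [])] ++ Ya ++ [(rt 10, 1, [])]) (.inr (rt 1).rev) (.inr (rt 1))
    [(1, [0, 3, 0, 0, 0, 0, 1]), (1, [0, 3, 0, 0, 0, 1, 1]), (1, [0, 3, 0, 0, 3]), (-1, []), (-1, [0, 0, 0, 0, 0, 1])] = true := by decide +kernel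

theorem b1 : entChk c7 0 (invW [(rt 1, 1, [])] ++ Wb ++ [(rt 1, 1, [])]) (ixG2 (rt 7).rev) (ixG2 (rt 7))
    [(-1, [0, 0, 0, 1])] = true := by decide +kernel

theorem b2 : entChk c7 0 (invW [(rt 2, 1, [])] ++ Wb ++ [(rt 2, 1, [])]) (ixG2 (rt 7).rev) (ixG2 (rt 7))
    [(1, [0, 0, 1])] = true := by decide +kernel

theorem b3 : entChk c7 0 (invW [(rt 3, 1, [])] ++ Wb ++ [(rt 3, 1, [])]) (ixG2 (rt 4).rev) (ixG2 (rt 4))
    [(-1, [0, 0, 0, 0, 0, 1])] = true := by decide +kernel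

theorem b4 : entChk c7 0 (invW [(rt 5, 1, [])] ++ Wb ++ [(rt 5, 1, [])]) (ixG2 (rt 4).rev) (ixG2 (rt 4))
    [(1, [0, 0, 0, 0, 1])] = true := by decide +kernel

theorem b5 : entChk c7 0 (invW [(rt 9, 1, [])] ++ Wb ++ [(rt 9, 1, [])]) (ixG2 (rt 2).rev) (ixG2 (rt 2))
    [(-1, [0, 1, 0, 0, 0, 0, 1]), (-2, [0, 1, 0, 1]), (-2, [0, 1, 0, 1, 1]), (-1, [0, 1, 1, 0, 0, 1]), (-2, []), (-2, [0, 0, 0, 0, 1])] = true := by decide +kernel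

theorem a6 : entChk c7 0 Wa (ixG2 (rt 9).rev) (ixG2 (rt 9)) [(1, [0, 2])] = true := by decide +kernel

theorem b6 : entChk (adc chevG2) 0 Wb (.inr (rt 11).rev) (.inr (rt 11)) [(-1, [0, 2])] = true := by decide +kernel

theorem b7 : ∀ b, colChk (adc chevG2) 0 (invW ((rt 11, 1, [1]) :: n1 (rt 10)) ++ Xb ++ (rt 11, 1, [1]) :: n1 (rt 10))
    [(rt 5, 1, [0, 1])] b = true := by decide +kernel

theorem b8 : ∀ b, colChk (adc chevG2) 0 (invW ((rt 11, 1, [1]) :: n1 (rt 11)) ++ Xb ++ (rt 11, 1, [1]) :: n1 (rt 11))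
    [(rt 11, 1, [0, 1])] b = true := by decide +kernel

theorem e1 : ∀ b, colChk (adc chevG2) 0 (Xa ++ (Xa ++ Xa)) [] b = true := by decide +kernel

theorem e2 : ∀ b, colChk (adc chevG2) 0 (Xa ++ [(rt 5, 1, [0, 0, 1])]) ([(rt 5, 1, [0, 0, 1])] ++ Xa) b = true := by
  decide +kernel

theorem e3 : entChk c7 3 ((Xa ++ [(rt 11, 1, [0, 0, 1])]) ++ ((Xa ++ [(rt 11, 1, [0, 0, 1])]) ++
    (Xa ++ [(rt 11, 1, [0, 0, 1])]))) 0 1 [(1, [0, 2, 1])] = true := by decide +kernel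

theorem top14 : Same 0 ([(rt 6, true), (rt 10, true), (rt 11, true)].foldl (fun L o => opL (adc chevG2) o L)
    [(.inr (rt 11).rev, .inr (rt 11).rev, 1)]) [(.inr (rt 11), .inr (rt 11), 1)] := by decide +kernel

theorem top7 : Same 0 ([(rt 8, true), (rt 10, true)].foldl (fun L o => opL c7 o L)
    [(ixG2 (rt 9).rev, ixG2 (rt 9).rev, 1)]) [(ixG2 (rt 9), ixG2 (rt 9), 1)] := by decide +kernel

theorem wt7 : ∀ a : Fin 7, (-2 < wtG2 a 0 ∨ a = ixG2 (rt 9).rev) ∧ (wtG2 a 0 < 2 ∨ a = ixG2 (rt 9)) := by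
  decide +kernel

/-- data for the two maximal parabolic cases -/
def Dat (i j : Nd chevG2) (γ r : Rt chevG2) : Prop :=
  (∀ k, k = i ∨ k = j) ∧ i ≠ j ∧ chevG2.pairing γ (chevG2.simple i) = 1 ∧ chevG2.pairing γ (chevG2.simple j) = 0 ∧
  (∀ (s : Rt chevG2) (k : Nd chevG2), -(rcG2 s k - chevG2.pairing (chevG2.simple j) s * rcG2 (chevG2.simple j) k) =
    rcG2 s k - chevG2.pairing γ s * rcG2 γ k) ∧
  (∀ s : Rt chevG2, 1 ≤ rcG2 s i → s ∈ [r, rt 8, rt 9, rt 10, rt 11]) ∧ [r, rt 8, rt 9, rt 10, rt 11].Nodup ∧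
  ∀ s : Rt chevG2, s.val = chevG2.simple j →
    ∀ b, colChk (adc chevG2) 0 (n1 γ ++ [(s, 1, [])]) ([(s, 1, [])] ++ n1 γ) b = true

theorem datA : Dat (nd 0) (nd 1) (rt 9) (rt 7) := by unfold Dat; decide +kernel

theorem datB : Dat (nd 1) (nd 0) (rt 11) (rt 6) := by unfold Dat; decide +kernel

end Cfsg.Agent.AH.G2
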