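import Cfsg.Agent.Polar.OGeo
import Cfsg.Agent.Polar.Orth

/-!
Products of two conjugacy classes in orthogonal groups: geometric lemmas.
-/

set_option autoImplicit false

namespace Cfsg.Agent.AH.Ort

open Module Cfsg.Agent.Polar Cfsg.Agent.Polar.PQ

variable {F : Type*} [Field F] [Finite F] {V : Type*} [AddCommGroup V] [Module F V] [FiniteDimensional F V]
  {P : PQ (oFP F) V}

theorem two_hyp0 (hP : P.ND) (h5 : 5 ≤ finrank F V) {a b : V} (ha : a ≠ 0) (hb : b ≠ 0) :
    ∃ z, P.Sing z ∧ P.B a z ≠ 0 ∧ P.B b z ≠ 0 := by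
  have : Finite V := Module.finite_of_finite F
  have key : ∀ a b z : V, P.Sing z → P.B a z ≠ 0 → P.B b z = 0 → b ∉ F ∙ z →
      ∃ z, P.Sing z ∧ P.B a z ≠ 0 ∧ P.B b z ≠ 0 := fun a b z hz h1 h2 h3 => by
    obtain ⟨z', s', p', n'⟩ := o_exists_sing_perp hP h5 (v := z) (by rintro rfl; simp at h1) h3
    by_cases h : P.B a z' = 0
    · exact ⟨z + z', hz.add s' p', by simpa [h] using h1, by simpa [h2] using n'⟩
    · exact ⟨z', s', h, n'⟩
  obtain ⟨e, he0, he⟩ := o_exists_sing P (by omega)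
  obtain ⟨f, hf⟩ := hP.exists_hyp he he0
  obtain ⟨z1, s1, n1⟩ := hf.exists_sing_ne' hP ha
  obtain ⟨z2, s2, n2⟩ := hf.exists_sing_ne' hP hb
  by_cases c1 : P.B b z1 = 0
  swap
  · exact ⟨z1, s1, n1, c1⟩
  by_cases c2 : P.B a z2 = 0
  swap
  · exact ⟨z2, s2, c2, n2⟩
  by_cases c3 : b ∈ F ∙ z1
  swap
  · exact key a b z1 s1 n1 c1 c3
  by_cases c4 : a ∈ F ∙ z2
  swap
  · obtain ⟨z, h1, h2, h3⟩ := key b a z2 s2 n2 c2 c4
    exact ⟨z, h1, h3, h2⟩
  obtain ⟨s, rfl⟩ := Submodule.mem_span_singleton.1 c3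
  obtain ⟨t, rfl⟩ := Submodule.mem_span_singleton.1 c4
  have hs : s ≠ 0 := left_ne_zero_of_smul hb
  have ht : t ≠ 0 := left_ne_zero_of_smul ha
  have h12 : P.B z1 z2 ≠ 0 := fun h => n2 (by simp [h])
  have h := hyp_of_ne s1 s2 h12
  have h3 := h.finrank_perp
  obtain ⟨w, hw⟩ := o_exists_Q (h.emb.nd hP) (by omega) (c := -P.B z1 z2) (neg_ne_zero.2 h12)
  obtain ⟨w1, w2⟩ := mem_perp_pair.1 w.2
  have w3 : P.B w z2 = 0 := by simpa [h12] using w2
  have hw' : P.Q w = -P.B z1 z2 := hw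
  refine ⟨z1 + z2 + w, o_sing_iff.2 ?_, ?_, ?_⟩
  · rw [o_Q_add, o_Q_add, o_sing_iff.1 s1, o_sing_iff.1 s2, hw']
    simp [B_swap_zero w1, B_swap_zero w3]
  · simp [ht, B_swap_zero w3, s2.B_self, B_swap_ne h12]
  · simp [hs, B_swap_zero w1, s1.B_self, h12]

omit [Finite F] [FiniteDimensional F V] in
theorem hproj_ne {u f a : V} (h : P.Hyp u f) (ha : a ∉ F ∙ u) (hau : P.B a u = 0) : h.emb.r a ≠ 0 := fun h0 =>
  ha (Submodule.mem_span_singleton.2 ⟨P.B a f, by
    have h1 : P.hproj u f a = 0 := congrArg Subtype.val h0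
    have := hyp_decomp (P := P) u f a
    rw [h1, hau] at this
    simpa using this.symm⟩)

theorem two_hyp (hP : P.ND) (h7 : 7 ≤ finrank F V) {u a b : V} (hu : P.Sing u) (hu0 : u ≠ 0) (ha : a ∉ F ∙ u)
    (hb : b ∉ F ∙ u) (hau : P.B a u = 0) (hbu : P.B b u = 0) :
    ∃ z, P.Sing z ∧ P.B u z = 0 ∧ P.B a z ≠ 0 ∧ P.B b z ≠ 0 := by
  obtain ⟨f, h⟩ := hP.exists_hyp hu hu0
  have h3 := h.finrank_perp
  obtain ⟨z, s, n1, n2⟩ := two_hyp0 (h.emb.nd hP) (by omega) (hproj_ne h ha hau) (hproj_ne h hb hbu)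
  refine ⟨z, s, B_swap_zero (mem_perp_pair.1 z.2).1, ?_, ?_⟩
  · rwa [← Hyp.B_hproj_right (e := u) (f := f) a z.2]
  · rwa [← Hyp.B_hproj_right (e := u) (f := f) b z.2]

theorem eigen_scalar {V' : Type*} [AddCommGroup V'] [Module F V'] (hP : P.ND) (h5 : 5 ≤ finrank F V)
    (i f : V →ₗ[F] V') (hi : Function.Injective i) (h : ∀ v, P.Sing v → ∃ s : F, f v = s • i v) :
    ∃ s : F, ∀ v, f v = s • i v := by
  have A : ∀ (u v : V) (s : F), P.Sing u → P.Sing v → u ≠ 0 → P.B u v = 0 → f u = s • i u → f v = s • i v := by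
    intro u v s hu hv hu0 huv hs
    obtain ⟨s1, h1⟩ := h v hv
    obtain ⟨s2, h2⟩ := h (u + v) (hu.add hv huv)
    have h3 : (s - s2) • u = (s2 - s1) • v := hi (by
      rw [map_add, map_add, hs, h1] at h2
      rw [map_smul, map_smul]
      linear_combination (norm := module) h2)
    by_cases h4 : s2 = s1
    · rw [h4, sub_self, zero_smul, smul_eq_zero, sub_eq_zero] at h3
      rw [h1, h3.resolve_right hu0]
    · have h5 : v = ((s2 - s1)⁻¹ * (s - s2)) • u := by
        rw [mul_smul, h3, smul_smul, inv_mul_cancel₀ (sub_ne_zero.2 h4), one_smul]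
      rw [h5, map_smul, map_smul, hs, smul_comm]
  obtain ⟨e, he0, he⟩ := o_exists_sing P (by omega)
  obtain ⟨e', hf⟩ := hP.exists_hyp he he0
  obtain ⟨s, hs⟩ := h e he
  refine ⟨s, fun v => ?_⟩
  have := hf.mem_of_sing (S := (LinearMap.ker (f - s • i)).toAddSubgroup) (W := ⊤) trivial trivial
    (fun x _ hx => by
      obtain ⟨z, hz, hz0, hz'⟩ := o_iso (P := P) (P.perp {e, x}) (by
        have := finrank_perp₂ (P := P) e x; omega)
      rw [mem_perp_pair] at hz
      have := A z x s hz' hx hz0 hz.2 (A e z s he hz' he0 (B_swap_zero hz.1) hs)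
      simp [this]) (x := v) trivial
  simpa [sub_eq_zero] using this

/-- the linear map of an isometry -/
def ln (g : P.Iso) : End F V := ((g : V ≃ₗ[F] V) : V →ₗ[F] V)

omit [Finite F] [FiniteDimensional F V] in
@[simp] theorem ln_apply (g : P.Iso) (v : V) : ln g v = g • v := rfl

/-- the Gram determinant of `x` on a pair of vectors -/
def dt (x : P.Iso) (u v : V) : F := P.B (x • u) u * P.B (x • v) v - P.B (x • u) v * P.B (x • v) u

theorem sq_of_scalar (hP : P.ND) (h2 : 2 ≤ finrank F V) {V' : Type*} [AddCommGroup V'] [Module F V']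
    {P' : PQ (oFP F) V'} (E : Emb P P') {y : P'.Iso} {l : F} (h : ∀ v, y • E.i v = l • E.i v) : l * l = 1 := by
  have : Finite V := Module.finite_of_finite F
  obtain ⟨v, hv⟩ := o_exists_Q hP h2 one_ne_zero
  have h1 : P'.Q (E.i v) = 1 := o_QEq_iff.1 (E.QEq_i_iff.2 (o_QEq_iff.2 hv))
  have := o_Q_act y (E.i v)
  rw [h, o_Q_smul, h1] at this
  linear_combination this

theorem domestic (hP : P.ND) (h7 : 7 ≤ finrank F V) {y : P.Iso}
    (hy : ∀ u v, P.Sing u → P.Sing v → P.B u v = 0 → dt y u v = 0) :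
    (∃ t : F, ∀ v : V, y • v = t • v) ∨
      ∃ (l : F) (w : V), l * l = 1 ∧ P.Q w ≠ 0 ∧ ∀ v : V, y • v = l • P.reflect w • v := by
  have h1 : ∀ u, P.Sing u → P.B (y • u) u = 0 → ∃ s : F, y • u = s • u := fun u hu h0 => by
    by_contra hn
    push Not at hn
    have hu0 : u ≠ 0 := by rintro rfl; exact hn 0 (by simp)
    obtain ⟨z, s, p, n1, n2⟩ := two_hyp hP h7 hu hu0 (a := y • u) (b := y⁻¹ • u)
      (fun h => by obtain ⟨s, hs⟩ := Submodule.mem_span_singleton.1 h; exact hn s hs.symm)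
      (fun h => by
        obtain ⟨s, hs⟩ := Submodule.mem_span_singleton.1 h
        have h2 : u = s • y • u := by rw [← act_smul, hs, smul_inv_smul]
        have hs0 : s ≠ 0 := by rintro rfl; exact hu0 (by simpa using h2)
        exact hn s⁻¹ (by rw [eq_inv_smul_iff₀ hs0, ← h2]))
      h0 (by rw [← B_act_right, B_swap_zero h0])
    have := hy u z hu s p
    rw [dt, h0, zero_mul, zero_sub, neg_eq_zero, mul_eq_zero, B_act_left y z, o_swap] at this
    exact this.elim (fun h => n1 (by rwa [o_swap])) (fun h => n2 (by rwa [o_swap] at h))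
  by_cases h0 : ∀ u, P.Sing u → P.B (y • u) u = 0
  · exact Or.inl (eigen_scalar hP (by omega) LinearMap.id (ln y) Function.injective_id
      fun v hv => h1 v hv (h0 v hv))
  push Not at h0
  obtain ⟨e, he, hb⟩ := h0
  have h := hyp_of_ne he (he.act y) (B_swap_ne hb)
  have h3 := h.finrank_perp
  have hm : ∀ v ∈ P.perp {e, (RingHom.id F) (P.B e (y • e))⁻¹ • y • e}, P.B v e = 0 ∧ P.B v (y • e) = 0 :=
    fun v hv => by simpa [mem_perp_pair, B_swap_ne hb] using hv
  obtain ⟨l, hl⟩ := eigen_scalar (h.emb.nd hP) (by omega) h.emb.i (ln y ∘ₗ h.emb.i) h.emb.i_injective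
    fun v hv => h1 v hv (by
      have := hy e v he hv (B_swap_zero (hm v v.2).1)
      rw [dt, B_swap_zero (hm v v.2).2, zero_mul, sub_zero, mul_eq_zero] at this
      exact this.resolve_left hb)
  have hll := sq_of_scalar (h.emb.nd hP) (by omega) h.emb hl
  have hl' : ∀ v ∈ P.perp {e, (RingHom.id F) (P.B e (y • e))⁻¹ • y • e}, y • v = l • v := fun v hv => hl ⟨v, hv⟩
  obtain ⟨β, hβ⟩ : ∃ β, β = P.B (y • e) e := ⟨_, rfl⟩
  have hβ' : P.B e (y • e) = β := by rw [o_swap, hβ]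
  have hβ0 : β ≠ 0 := hβ ▸ hb
  have hl0 : l ≠ 0 := left_ne_zero_of_mul (hll ▸ one_ne_zero)
  have s2 := (he.act y).B_self
  have h4 : y • y • e = e := by
    have h5 := h.eq_zero_of_perp hP (h.hproj_mem (y • y • e)) fun w hw => by
      rw [Hyp.B_hproj_right _ hw]
      have h6 : w = y • l • w := by rw [act_smul, hl' w hw, smul_smul, hll, one_smul]
      rw [h6, B_smul_smul, B_smul_right, B_swap_zero (hm w hw).2, mul_zero]
    have h6 := hyp_decomp (P := P) e ((RingHom.id F) (P.B e (y • e))⁻¹ • y • e) (y • y • e)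
    rw [h5, B_smul_right, B_smul_smul, hβ', ← hβ] at h6
    have h7 := o_sing_iff.1 ((he.act y).act y)
    rw [h6, add_zero, o_Q_add, o_Q_smul, o_Q_smul, o_Q_smul, o_sing_iff.1 he, o_sing_iff.1 (he.act y)] at h7
    have h8 : P.B (y • y • e) e = 0 := by simpa [hβ', hβ0] using h7
    rw [h6, h8]
    simp [hβ0]
  have hQ : P.Q (e - l • y • e) = -(l * β) := by
    rw [o_Q_sub, o_Q_smul, o_sing_iff.1 he, o_sing_iff.1 (he.act y), B_smul_right, hβ']
    simp
  have hQ0 : P.Q (e - l • y • e) ≠ 0 := by rw [hQ]; exact neg_ne_zero.2 (mul_ne_zero hl0 hβ0)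
  refine Or.inr ⟨l, e - l • y • e, hll, hQ0, fun v => ?_⟩
  have hv := h.hproj_mem v
  have r1 : y • e = l • P.reflect (e - l • y • e) • e := by
    rw [reflect_smul hQ0, hQ]
    simp [he.B_self, hβ', hl0, hβ0, smul_smul, hll]
  have r2 : y • y • e = l • P.reflect (e - l • y • e) • y • e := by
    rw [reflect_smul hQ0, hQ, h4]
    simp only [map_sub, B_smul_right, s2, ← hβ, mul_zero, sub_zero]
    generalize y • e = e'
    match_scalars
    · field_simp
    · field_simp; ring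
  have r3 := reflect_smul_of_perp (P := P) (v := e - l • y • e)
    (x := P.hproj e ((RingHom.id F) (P.B e (y • e))⁻¹ • y • e) v) (by
      rw [map_sub, B_smul_right, (hm _ hv).1, (hm _ hv).2, mul_zero, sub_zero])
  rw [hyp_decomp (P := P) e ((RingHom.id F) (P.B e (y • e))⁻¹ • y • e) v]
  simp only [smul_add, act_smul]
  rw [hl' _ hv, r3, r2, smul_comm l _ (P.reflect _ • e), ← r1]
  generalize P.reflect (e - l • y • e) • y • e = a
  generalize y • e = e'
  module

theorem reflect_not_mem (hP : P.ND) (h5 : 5 ≤ finrank F V) {w : V} (hw : P.Q w ≠ 0) : P.reflect w ∉ P.EG := by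
  have h1 : ∀ (g : P.Iso) (v : V), P.Q v ≠ 0 →
      Forms.rk (ln (P.reflect v * g)) % 2 = (Forms.rk (ln g) + 1) % 2 := fun g v hv => by
    have h2 : ln (P.reflect v * g) = Forms.refl P.toQuad v ∘ₗ ln g :=
      LinearMap.ext fun x => by simp [mul_smul, reflect_smul' hv]
    have := Forms.rk_refl_comp hP.pol_toQuad (g := ln g) (o_Q_act g) hv
    rw [h2]
    omega
  have h0 : Forms.rk (ln (1 : P.Iso)) = 0 := Forms.rk_id
  have h2 : ∀ g h : P.Iso, Forms.rk (ln (g * h)) % 2 = (Forms.rk (ln g) + Forms.rk (ln h)) % 2 := fun g h => by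
    induction g using o_induction hP h5 with
    | h1 => rw [one_mul, h0, zero_add]
    | hr g v hv ih =>
      have a1 := h1 g v hv
      have a2 := h1 (g * h) v hv
      rw [mul_assoc]
      omega
  have h3 : (-1 : ℤˣ) ^ 2 = 1 := by decide
  let d : P.Iso →* ℤˣ := MonoidHom.mk' (fun g => (-1) ^ Forms.rk (ln g)) fun g h => by
    rw [← pow_add, pow_eq_pow_mod _ h3, h2, ← pow_eq_pow_mod _ h3]
  intro hm
  have h4 : d (P.reflect w) = 1 := Abelianization.commutator_subset_ker d (o_EG_le_commutator hP h5 hm)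
  have h6 := h1 1 w hw
  rw [mul_one, h0] at h6
  change (-1 : ℤˣ) ^ Forms.rk (ln (P.reflect w)) = 1 at h4
  rw [pow_eq_pow_mod _ h3, h6] at h4
  exact absurd h4 (by decide)

end Cfsg.Agent.AH.Ort
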