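import Cfsg.Agent.AH.Core
import Cfsg.Agent.Tw.ReeGow
import Cfsg.Agent.Sz.Struct
import Cfsg.Agent.Sz.Inst

/-!
Products of two conjugacy classes in groups with a split BN-pair of rank one: the Suzuki and the small Ree groups.
-/

set_option autoImplicit false
set_option linter.unusedSectionVars false
set_option linter.style.haveILetI false

namespace Cfsg.Agent.AH

open MulAction

section Count

variable {G Ω : Type*} [Group G] [MulAction G Ω] [Fintype G] [Fintype Ω] [DecidableEq Ω]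

variable (Ω) in
/-- the number of fixed points -/
def nfix (g : G) : ℤ := ∑ ω : Ω, if g • ω = ω then 1 else 0

/-- the number of conjugates of `b` moving `ω` to `ω'` -/
def nmov (b : G) (ω ω' : Ω) : ℤ := ∑ v : G, if (v * b * v⁻¹) • ω = ω' then 1 else 0

theorem nfix_conj {x y : G} (h : IsConj x y) : nfix Ω x = nfix Ω y := by
  obtain ⟨u, rfl⟩ := isConj_iff.1 h
  refine Fintype.sum_equiv (MulAction.toPerm u) _ _ fun ω => ?_
  simp [mul_smul]

theorem nmov_smul (b g : G) (ω ω' : Ω) : nmov b (g • ω) (g • ω') = nmov b ω ω' := by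
  refine (Fintype.sum_equiv (Equiv.mulLeft g) _ _ fun v => ?_).symm
  simp [mul_smul]

theorem count_fix (h2 : ∀ a b c d : Ω, a ≠ b → c ≠ d → ∃ g : G, g • a = c ∧ g • b = d) {i o : Ω} (hio : i ≠ o)
    {a b c : G} (H : Hyp a b c) :
    ((Fintype.card Ω : ℤ) - 1) * (nfix Ω c - 1) = (nfix Ω a - 1) * (nfix Ω b - 1) := by
  have hd : ∀ ω, nmov b ω ω = nmov b i i := fun ω => by
    obtain ⟨ω', h⟩ : ∃ ω', ω ≠ ω' := by
      by_cases h : ω = i
      exacts [⟨o, h ▸ hio⟩, ⟨i, h⟩]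
    obtain ⟨g, rfl, -⟩ := h2 i o ω ω' hio h
    exact nmov_smul _ _ _ _
  have ho : ∀ ω ω', ω ≠ ω' → nmov b ω ω' = nmov b i o := fun ω ω' h => by
    obtain ⟨g, rfl, rfl⟩ := h2 i o ω ω' hio h
    exact nmov_smul _ _ _ _
  have e1 : (Fintype.card Ω : ℤ) * nmov b i i = Fintype.card G * nfix Ω b := by
    calc _ = ∑ ω : Ω, nmov b ω ω := by simp [hd]
      _ = ∑ v : G, nfix Ω (v * b * v⁻¹) := Finset.sum_comm
      _ = _ := by simp [fun v => (nfix_conj (Ω := Ω) (isConj_iff.2 ⟨v, rfl⟩ : IsConj b (v * b * v⁻¹))).symm]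
  have key : ∀ f : Ω → Ω, ∑ ω, nmov b ω (f ω) = (∑ ω, if f ω = ω then 1 else 0) * (nmov b i i - nmov b i o) +
      Fintype.card Ω * nmov b i o := fun f => by
    rw [Finset.sum_mul, ← Finset.card_univ, ← nsmul_eq_mul, ← Finset.sum_const, ← Finset.sum_add_distrib]
    refine Finset.sum_congr rfl fun ω _ => ?_
    by_cases h : f ω = ω
    · simp [h, hd]
    · simp [h, ho _ _ (Ne.symm h)]
  have e2 : (Fintype.card G : ℤ) = (nmov b i i - nmov b i o) + Fintype.card Ω * nmov b i o := by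
    calc _ = ∑ ω : Ω, nmov b i ω := by
          unfold nmov; rw [Finset.sum_comm]; simp
      _ = ∑ ω : Ω, ((if ω = i then nmov b i i - nmov b i o else 0) + nmov b i o) :=
          Finset.sum_congr rfl fun ω _ => by
            by_cases h : ω = i
            · simp [h]
            · simp [h, ho _ _ (Ne.symm h)]
      _ = _ := by simp [Finset.sum_add_distrib]
  have e3 : (Fintype.card G : ℤ) * nfix Ω c = nfix Ω a * (nmov b i i - nmov b i o) + Fintype.card Ω * nmov b i o := by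
    calc _ = ∑ v : G, nfix Ω (a * (v * b * v⁻¹)) := by
          simp [fun v => (nfix_conj (Ω := Ω) (H.conj (IsConj.refl a) (isConj_iff.2 ⟨v, rfl⟩) :
            IsConj c (a * (v * b * v⁻¹)))).symm]
      _ = ∑ ω : Ω, nmov b ω (a⁻¹ • ω) := by
          unfold nmov nfix; rw [Finset.sum_comm]
          simp only [mul_smul a, eq_inv_smul_iff]
      _ = _ := by
          rw [key]; congr 2
          exact Finset.sum_congr rfl fun ω _ => if_congr (inv_smul_eq_iff.trans eq_comm) rfl rfl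
  have hG : (Fintype.card G : ℤ) ≠ 0 := by exact_mod_cast Fintype.card_ne_zero
  have hN : (Fintype.card Ω : ℤ) ≠ 0 := by
    haveI : Nonempty Ω := ⟨i⟩
    exact_mod_cast Fintype.card_ne_zero
  refine mul_left_cancel₀ (mul_ne_zero hG hN) ?_
  generalize (Fintype.card G : ℤ) = g at *
  generalize (Fintype.card Ω : ℤ) = N at *
  linear_combination N * (N - 1) * e3 + N * (nfix Ω a - 1) * e1 + N * (nfix Ω a - N) * e2

theorem nfix_eq (g : G) : nfix Ω g = Nat.card (fixedBy Ω g) := by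
  rw [nfix, Finset.sum_boole, Nat.card_eq_fintype_card, Fintype.card_subtype]; rfl

end Count

/-- a split BN-pair of rank one with an abelian torus inverted by the Weyl element -/
structure SB (G : Type*) [Group G] (A : Type*) [CommGroup A] (p : ℕ) where
  /-- unipotent radical -/
  U : Subgroup G
  /-- Borel subgroup -/
  B : Subgroup G
  /-- torus -/
  h : A →* G
  /-- Weyl element -/
  n : G
  mem_B : ∀ {b}, b ∈ B ↔ ∃ u ∈ U, ∃ s, b = u * h s
  norm : ∀ s, ∀ u ∈ U, h s * u * (h s)⁻¹ ∈ U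
  inj : ∀ s, h s ∈ U → s = 1
  n_sq : n * n = 1
  n_h : ∀ s, n * h s * n = h s⁻¹
  cell : ∀ g, g ∉ B → ∃ u ∈ U, ∃ b ∈ B, g = u * n * b
  ti0 : ∀ u ∈ U, n * u * n ∈ B → u = 1
  pA : ∀ (s : A) k, s ^ p ^ k = 1 → s = 1
  big : ∃ s : A, s * s ≠ 1
  fix : ∀ s ≠ 1, Nat.card {u : U // h s * u * (h s)⁻¹ = u} ^ 2 < Nat.card U
  semi : ∀ g ∈ B, ¬ p ∣ orderOf g → ∃ s, IsConj g (h s)

namespace SB

variable {G : Type*} [Group G] [Finite G] {A : Type*} [CommGroup A] {p : ℕ} (P : SB G A p)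

theorem U_le_B : P.U ≤ P.B := fun u hu => P.mem_B.2 ⟨u, hu, 1, by simp⟩

theorem h_mem (s : A) : P.h s ∈ P.B := P.mem_B.2 ⟨1, one_mem _, s, by simp⟩

theorem n_inv : P.n⁻¹ = P.n := inv_eq_of_mul_eq_one_right P.n_sq

theorem one_lt : 1 < Nat.card P.U := by
  obtain ⟨s, hs⟩ := P.big
  have h1 := P.fix s (by rintro rfl; simp at hs)
  haveI : Nonempty {u : P.U // P.h s * u * (P.h s)⁻¹ = u} := ⟨⟨1, by simp⟩⟩
  have h2 : 0 < Nat.card {u : P.U // P.h s * u * (P.h s)⁻¹ = u} := Nat.card_pos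
  nlinarith

theorem n_notMem : P.n ∉ P.B := fun h => by
  haveI := Finite.one_lt_card_iff_nontrivial.1 P.one_lt
  obtain ⟨u, hu⟩ := exists_ne (1 : P.U)
  exact hu (Subtype.ext (P.ti0 _ u.2 (mul_mem (mul_mem h (P.U_le_B u.2)) h)))

theorem eq_h {b : G} (hb : b ∈ P.B) (h : P.n * b * P.n ∈ P.B) : ∃ s, b = P.h s := by
  obtain ⟨u, hu, s, rfl⟩ := P.mem_B.1 hb
  refine ⟨s, mul_eq_right.2 (P.ti0 u hu ?_)⟩
  rw [← mul_mem_cancel_right (P.h_mem s⁻¹), ← P.n_h]
  convert h using 1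
  simp only [mul_assoc, ← mul_assoc P.n P.n, P.n_sq, one_mul]

theorem pt_inj {u u' : G} (hu : u ∈ P.U) (hu' : u' ∈ P.U) (e : ((u * P.n : G) : G ⧸ P.B) = (u' * P.n : G)) : u = u' :=
  inv_mul_eq_one.1 (P.ti0 _ (mul_mem (inv_mem hu) hu') (by
    simpa [mul_assoc, P.n_inv] using QuotientGroup.eq.1 e))

theorem pt_ne {u : G} (hu : u ∈ P.U) : ((1 : G) : G ⧸ P.B) ≠ (u * P.n : G) := fun e =>
  P.n_notMem (by simpa [mul_mem_cancel_left (P.U_le_B hu)] using QuotientGroup.eq.1 e)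

/-- the points of the natural action -/
noncomputable def pts : Option P.U ≃ G ⧸ P.B :=
  Equiv.ofBijective (fun o => o.elim ((1 : G) : G ⧸ P.B) fun u => ((u * P.n : G) : G ⧸ P.B)) ⟨by
    rintro (_ | u) (_ | u') e
    · rfl
    · exact absurd e (P.pt_ne u'.2)
    · exact absurd e.symm (P.pt_ne u.2)
    · exact congrArg _ (Subtype.ext (P.pt_inj u.2 u'.2 e)), fun c => by
    obtain ⟨g, rfl⟩ := QuotientGroup.mk_surjective c
    by_cases h : g ∈ P.B
    · exact ⟨none, QuotientGroup.eq.2 (by simpa)⟩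
    · obtain ⟨u, hu, b, hb, rfl⟩ := P.cell _ h
      exact ⟨some ⟨u, hu⟩, QuotientGroup.eq.2 (by simpa [mul_assoc])⟩⟩

theorem card_pts : Nat.card (G ⧸ P.B) = Nat.card P.U + 1 := by
  rw [← Nat.card_congr P.pts, Finite.card_option]

theorem pair {a b : G ⧸ P.B} (h : a ≠ b) :
    ∃ g : G, g • ((1 : G) : G ⧸ P.B) = a ∧ g • ((P.n : G) : G ⧸ P.B) = b := by
  obtain ⟨x, rfl⟩ := QuotientGroup.mk_surjective a
  obtain ⟨y, rfl⟩ := QuotientGroup.mk_surjective b
  obtain ⟨u, hu, b, hb, e⟩ := P.cell _ (mt QuotientGroup.eq.2 h)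
  refine ⟨x * u, QuotientGroup.eq.2 (by simpa using P.U_le_B hu), QuotientGroup.eq.2 ?_⟩
  rw [inv_mul_eq_iff_eq_mul.1 e]
  simpa [mul_assoc]

theorem two_trans (a b c d : G ⧸ P.B) (h : a ≠ b) (h' : c ≠ d) : ∃ g : G, g • a = c ∧ g • b = d := by
  obtain ⟨g, rfl, rfl⟩ := P.pair h
  obtain ⟨g', rfl, rfl⟩ := P.pair h'
  exact ⟨g' * g⁻¹, by simp only [mul_smul, inv_smul_smul], by simp only [mul_smul, inv_smul_smul]⟩

theorem mem_fix (b g : G) : (g : G ⧸ P.B) ∈ fixedBy (G ⧸ P.B) b ↔ g⁻¹ * b * g ∈ P.B := by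
  rw [mem_fixedBy, Quotient.smul_coe, eq_comm, QuotientGroup.eq, smul_eq_mul, mul_assoc]

theorem card_fix_h (s : A) :
    Nat.card (fixedBy (G ⧸ P.B) (P.h s)) = Nat.card {u : P.U // P.h s * u * (P.h s)⁻¹ = u} + 1 := by
  rw [← Finite.card_option]
  have h0 : ∀ o : Option {u : P.U // P.h s * u * (P.h s)⁻¹ = u},
      P.pts (o.map Subtype.val) ∈ fixedBy (G ⧸ P.B) (P.h s) := by
    rintro (_ | ⟨u, hu⟩)
    · exact (P.mem_fix _ 1).2 (by simpa using P.h_mem s)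
    · refine (P.mem_fix _ (u * P.n)).2 ?_
      convert P.h_mem s⁻¹ using 1
      rw [← P.n_h, mul_inv_rev, P.n_inv]
      calc _ = P.n * ((u : G)⁻¹ * (P.h s * u * (P.h s)⁻¹)) * P.h s * P.n := by group
        _ = _ := by rw [hu]; group
  refine (Nat.card_eq_of_bijective (fun o => ⟨_, h0 o⟩) ⟨fun a b e => ?_, ?_⟩).symm
  · exact Option.map_injective Subtype.val_injective (P.pts.injective (Subtype.ext_iff.1 e))
  · rintro ⟨c, hc⟩
    obtain ⟨_ | u, rfl⟩ := P.pts.surjective c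
    · exact ⟨none, rfl⟩
    · refine ⟨some ⟨u, P.pt_inj (P.norm s _ u.2) u.2 (Eq.trans ?_ hc)⟩, rfl⟩
      refine QuotientGroup.eq.2 ?_
      convert P.h_mem s⁻¹ using 1
      rw [← P.n_h]
      change _ * (P.h s * (u * P.n)) = _
      nth_rewrite 3 [← P.n_inv]
      group

theorem conj_h {g : G} (h : 1 < Nat.card (fixedBy (G ⧸ P.B) g)) : ∃ s, IsConj g (P.h s) := by
  haveI := Finite.one_lt_card_iff_nontrivial.1 h
  obtain ⟨⟨a, ha⟩, ⟨b, hb⟩, e⟩ := exists_pair_ne (fixedBy (G ⧸ P.B) g)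
  obtain ⟨x, rfl, rfl⟩ := P.pair (a := a) (b := b) (fun e' => e (Subtype.ext e'))
  have h1 := (P.mem_fix g (x * 1)).1 ha
  have h2 := (P.mem_fix g (x * P.n)).1 hb
  obtain ⟨s, hs⟩ := P.eq_h (b := x⁻¹ * g * x) (by simpa using h1) (by simpa [mul_assoc, P.n_inv] using h2)
  exact ⟨s, isConj_iff.2 ⟨x⁻¹, by rw [← hs, inv_inv]⟩⟩

theorem card_fix_conj {x y : G} (h : IsConj x y) :
    Nat.card (fixedBy (G ⧸ P.B) x) = Nat.card (fixedBy (G ⧸ P.B) y) := by
  classical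
  haveI := Fintype.ofFinite G
  haveI := Fintype.ofFinite (G ⧸ P.B)
  exact_mod_cast (nfix_eq x).symm.trans ((nfix_conj h).trans (nfix_eq y))

theorem fix_bound {g : G} (hg : g ≠ 1) : ((Nat.card (fixedBy (G ⧸ P.B) g) : ℤ) - 1) ^ 2 < Nat.card P.U := by
  by_cases h : 1 < Nat.card (fixedBy (G ⧸ P.B) g)
  · obtain ⟨s, hs⟩ := P.conj_h h
    rw [P.card_fix_conj hs, P.card_fix_h]
    have := P.fix s (by rintro rfl; exact hg (by simpa using hs))
    push_cast
    rw [add_sub_cancel_right]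
    exact_mod_cast this
  · have := P.one_lt
    interval_cases Nat.card (fixedBy (G ⧸ P.B) g)
    · simpa
    · simp

theorem dvd_of_one {g : G} (h : Nat.card (fixedBy (G ⧸ P.B) g) = 1) : p ∣ orderOf g := by
  by_contra hp
  obtain ⟨⟨c, hc⟩⟩ := (Nat.card_eq_one_iff_unique.1 h).2
  obtain ⟨x, rfl⟩ := QuotientGroup.mk_surjective c
  have h1 : IsConj g (x⁻¹ * g * x) := isConj_iff.2 ⟨x⁻¹, by rw [inv_inv]⟩
  obtain ⟨s, hs⟩ := P.semi _ ((P.mem_fix g x).1 hc) (by rwa [← orderOf_of_isConj h1])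
  rw [P.card_fix_conj (h1.trans hs), P.card_fix_h] at h
  haveI : Nonempty {u : P.U // P.h s * u * (P.h s)⁻¹ = u} := ⟨⟨1, by simp⟩⟩
  have h2 : 0 < Nat.card {u : P.U // P.h s * u * (P.h s)⁻¹ = u} := Nat.card_pos
  omega

theorem exists_cell {g : G} (hg : g ≠ 1) : ∃ s, ∃ u ∈ P.U, IsConj g (P.h s * P.n * u) := by
  obtain ⟨x, hx⟩ : ∃ x, x⁻¹ * g * x ∉ P.B := by
    by_contra! h
    have h1 : fixedBy (G ⧸ P.B) g = Set.univ := Set.eq_univ_of_forall fun c => by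
      obtain ⟨x, rfl⟩ := QuotientGroup.mk_surjective c
      exact (P.mem_fix g x).2 (h x)
    have h2 := P.fix_bound hg
    rw [h1, Nat.card_univ, P.card_pts] at h2
    have := P.one_lt
    push_cast at h2
    nlinarith
  obtain ⟨u, hu, b, hb, e⟩ := P.cell _ hx
  obtain ⟨v, hv, s, rfl⟩ := P.mem_B.1 hb
  refine ⟨s⁻¹, (P.h s)⁻¹ * v * P.h s * u, mul_mem (by simpa using P.norm s⁻¹ v hv) hu,
    isConj_iff.2 ⟨u⁻¹ * x⁻¹, ?_⟩⟩
  rw [← P.n_h, mul_assoc _ P.n P.n, P.n_sq]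
  calc _ = u⁻¹ * (x⁻¹ * g * x) * u := by group
    _ = _ := by rw [e]; group

theorem pow_B {u : G} (hu : u ∈ P.U) (s : A) (k : ℕ) : ∃ u' ∈ P.U, (P.h s * u) ^ k = P.h (s ^ k) * u' := by
  induction k with
  | zero => exact ⟨1, one_mem _, by simp⟩
  | succ k ih =>
    obtain ⟨u', h1, e⟩ := ih
    exact ⟨_, mul_mem (P.norm s⁻¹ _ h1) hu, by rw [pow_succ, e, pow_succ, map_mul, map_inv]; group⟩

include P in
theorem not_unip {a b c : G} (ha : a ≠ 1) (hb : b ≠ 1) (H : Hyp a b c) : ¬ ∃ k, orderOf c = p ^ k := by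
  rintro ⟨k, hk⟩
  obtain ⟨r, v, hv, hy⟩ := P.exists_cell hb
  have key : ∀ s, ∀ u ∈ P.U, IsConj a (P.h s * P.n * u) → s = r := fun s u hu hx => by
    have h1 := H.conj hx (hy.trans (isConj_iff.2 ⟨u⁻¹, rfl⟩))
    have h2 : P.h s * P.n * u * (u⁻¹ * (P.h r * P.n * v) * u⁻¹⁻¹) = P.h (s * r⁻¹) * (v * u) := by
      rw [map_mul, ← P.n_h]; group
    obtain ⟨w, hw, e⟩ := P.pow_B (mul_mem hv hu) (s * r⁻¹) (p ^ k)
    rw [← h2, ← hk, orderOf_of_isConj h1, pow_orderOf_eq_one, ← orderOf_of_isConj h1, hk] at e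
    exact mul_inv_eq_one.1 (P.pA _ k (P.inj _ (eq_inv_of_mul_eq_one_left e.symm ▸ inv_mem hw)))
  obtain ⟨s, u, hu, hx⟩ := P.exists_cell ha
  obtain ⟨t, ht⟩ := P.big
  have h1 := key s u hu hx
  have h2 := key (t * t * s) _ (P.norm t u hu) (hx.trans (isConj_iff.2 ⟨P.h t, by
    have : P.h t * P.n = P.n * (P.h t)⁻¹ := by rw [← map_inv, ← P.n_h, ← mul_assoc, ← mul_assoc, P.n_sq, one_mul]
    rw [mul_comm (t * t), mul_comm s, mul_assoc t, mul_comm t s, map_mul, map_mul, mul_assoc (P.h t) _ P.n,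
      mul_assoc (P.h s) (P.h t), this]
    group⟩))
  exact ht (by simpa [← h1] using h2)

include P in
theorem mix : Mix p G := by
  classical
  haveI := Fintype.ofFinite G
  haveI := Fintype.ofFinite (G ⧸ P.B)
  intro a b c ha hb hc H
  have h1 := count_fix P.two_trans (P.pt_ne (one_mem _)) H
  rw [nfix_eq, nfix_eq, nfix_eq, ← Nat.card_eq_fintype_card, P.card_pts] at h1
  have h2 := P.fix_bound ha
  have h3 := P.fix_bound hb
  have h4 := @P.dvd_of_one _ _ _ _ _ _ a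
  have h5 := @P.dvd_of_one _ _ _ _ _ _ b
  have h6 := @P.dvd_of_one _ _ _ _ _ _ c
  push_cast at h1
  rw [add_sub_cancel_right] at h1
  have h7 : (Nat.card (fixedBy (G ⧸ P.B) c) : ℤ) - 1 = 0 := by
    by_contra h
    generalize (Nat.card (fixedBy (G ⧸ P.B) a) : ℤ) - 1 = x at *
    generalize (Nat.card (fixedBy (G ⧸ P.B) b) : ℤ) - 1 = y at *
    generalize (Nat.card (fixedBy (G ⧸ P.B) c) : ℤ) - 1 = z at *
    generalize (Nat.card P.U : ℤ) = N at *
    have h8 : 1 ≤ z ^ 2 := by have := sq_pos_of_ne_zero h; omega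
    have h9 : N ^ 2 * z ^ 2 = x ^ 2 * y ^ 2 := by rw [← mul_pow, h1, mul_pow]
    have h10 : x ^ 2 * y ^ 2 < N * N := mul_lt_mul'' h2 h3 (sq_nonneg _) (sq_nonneg _)
    nlinarith [sq_nonneg N]
  rw [h7, mul_zero, eq_comm, mul_eq_zero] at h1
  exact ⟨⟨h6 (by omega), P.not_unip ha hb H⟩, h1.imp (fun h => h4 (by omega)) fun h => h5 (by omega)⟩

end SB

theorem card_fix_one {G : Type*} [Group G] {U : Subgroup G} {f : G → G} (h0 : f 1 = 1) (h : ∀ u ∈ U, f u = u → u = 1) :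
    Nat.card {u : U // f u = u} = 1 :=
  Nat.card_eq_one_iff_unique.2 ⟨⟨fun a b => Subtype.ext (Subtype.ext ((h _ a.1.2 a.2).trans (h _ b.1.2 b.2).symm))⟩,
    ⟨⟨1, h0⟩⟩⟩

theorem unit_eq_one {F : Type*} [Field F] {p : ℕ} [Fact p.Prime] [CharP F p] (s : Fˣ) (k : ℕ) (h : s ^ p ^ k = 1) :
    s = 1 := by
  have := congrArg Units.val h
  rwa [Units.val_pow_eq_pow_val, Units.val_one, ← sub_eq_zero, ← one_pow (p ^ k), ← sub_pow_char_pow,
    pow_eq_zero_iff (pow_pos (Fact.out : p.Prime).pos k).ne', sub_eq_zero, Units.val_eq_one] at this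

theorem eq_one_of_pow {G : Type*} [Group G] {p : ℕ} [hp : Fact p.Prime] {g : G} {k : ℕ} (h : g ^ p ^ k = 1)
    (h' : ¬ p ∣ orderOf g) : g = 1 :=
  orderOf_eq_one_iff.1 (Nat.Coprime.eq_one_of_dvd (((Nat.Prime.coprime_iff_not_dvd hp.out).2 h').symm.pow_right k)
    (orderOf_dvd_of_pow_eq_one h))

/-- the Suzuki groups -/
noncomputable def sbSz {G : Type*} [Group G] {F : Type*} [Field F] {m : ℕ} (M : Sz.Model G F m) : SB G Fˣ 2 where
  U := M.Q
  B := M.B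
  h := M.h
  n := M.w
  mem_B := M.mem_B'.trans ⟨fun ⟨x, y, k, e⟩ => ⟨_, M.u_mem_Q x y, k, e⟩, fun ⟨_, ⟨x, y, e⟩, k, e'⟩ => ⟨x, y, k, e ▸ e'⟩⟩
  norm s _ hu := M.conj_mem_Q (M.h_mem_B s) hu
  inj s := fun ⟨x, y, e⟩ => (M.uh_inj (x := 0) (y := 0) (x' := x) (y' := y) (k := s) (k' := 1) (by simp [e])).2.2
  n_sq := M.w_mul_w
  n_h s := by rw [M.w_mul_h, mul_assoc, M.w_mul_w, mul_one]
  cell _ hg := (M.bruhat hg).elim fun x ⟨y, h⟩ => ⟨_, M.u_mem_Q x y, h⟩
  ti0 u hu h := by_contra fun h1 => M.w_not_mem_B (M.mem_B_of_conj_mem hu h1 (by rwa [M.w_inv]))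
  pA := haveI := M.char2; unit_eq_one
  big := by
    obtain ⟨x, h0, h1⟩ := M.exists_ne_zero_one
    exact ⟨Units.mk0 x h0, fun h => h1 (congrArg Units.val (M.unit_eq_one_of_sq ((pow_two _).trans h)))⟩
  fix s hs := by
    rw [card_fix_one (f := fun u => M.h s * u * (M.h s)⁻¹) (by simp), M.card_Q]
    · have := M.eight_le_card; nlinarith
    · rintro _ ⟨x, y, rfl⟩ e
      rw [M.h_conj_u, M.u_inj] at e
      exact M.u_eq_one.2 ⟨by_contra fun h => hs (Units.val_eq_one.1 (mul_eq_right₀ h |>.1 e.1)),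
        by_contra fun h => hs (Units.val_eq_one.1 (M.mul_σ_eq_one (mul_eq_right₀ h |>.1 e.2)))⟩
  semi g hg h2 := by
    obtain ⟨x, y, k, rfl⟩ := M.mem_B'.1 hg
    by_cases hk : k = 1
    · subst hk
      rw [map_one, mul_one] at h2 ⊢
      refine ⟨1, ?_⟩
      rw [map_one, eq_one_of_pow (k := 2) (M.u_pow_four x y) h2]
    · obtain ⟨a, b, e⟩ := M.uh_conj hk x y
      exact ⟨k, (isConj_iff.2 ⟨_, e.symm⟩).symm⟩

theorem mix_Sz {G : Type*} [Group G] [Finite G] (h : Cfsg.Lie.IsoSuzuki G) : Mix 2 G := by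
  obtain ⟨F, _, _, m, hm, hF, ⟨e⟩⟩ := h
  exact (sbSz ((Sz.lieModel hm (Nat.card_eq_fintype_card.trans hF)).map e.symm)).mix

/-- the small Ree groups -/
noncomputable def sbRee {G : Type*} [Group G] [Finite G] {F : Type*} [Field F] [Finite F] [CharP F 3]
    (P : Tw.RBN G F) (hq : ∃ s : F, s ^ 3 ≠ s) : SB G Fˣ 3 where
  U := P.U
  B := P.B
  h := P.h
  n := P.n
  mem_B := P.mem_B
  norm s _ hu := P.conj_U (P.h_mem s) hu
  inj s hs := (P.inj' (one_mem _) hs (s := s) (s' := 1) (by simp)).2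
  n_sq := P.n_sq
  n_h := P.n_h
  cell _ := P.cell'
  ti0 := P.ti0
  pA := unit_eq_one
  big := by
    obtain ⟨x, h⟩ := hq
    refine ⟨Units.mk0 x (by rintro rfl; simp at h), fun e => h ?_⟩
    rw [pow_three', show x * x = 1 from congrArg Units.val e, one_mul]
  fix s hs := by
    have h1 : 1 < Nat.card F := Finite.one_lt_card
    rw [P.card_U]
    by_cases h : s * s = 1
    · obtain rfl := (Tw.units_sq h).resolve_left hs
      refine lt_of_le_of_lt (Nat.pow_le_pow_left (m := Nat.card F) ?_ 2) (Nat.pow_lt_pow_right h1 (by norm_num))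
      refine Nat.card_le_card_of_surjective (fun v : F => ⟨⟨P.X 0 v 0, P.X_mem _ _ _⟩, by simp [P.conj]⟩) ?_
      rintro ⟨⟨u, hu⟩, e⟩
      obtain ⟨t, v, w, rfl⟩ := P.mem_U.1 hu
      obtain ⟨h2, -, h3⟩ := P.X_inj ((P.conj ..).symm.trans e)
      simp only [Units.val_neg, Units.val_one, map_neg, map_one] at h2 h3
      obtain rfl : t = 0 := by grind
      obtain rfl : w = 0 := by grind
      exact ⟨v, rfl⟩
    · rw [card_fix_one (f := fun u => P.h s * u * (P.h s)⁻¹) (by simp) fun u hu => P.fix_h h hu]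
      exact Nat.one_lt_pow (by norm_num) h1
  semi g hg h3 := by
    obtain ⟨u, hu, s, rfl⟩ := P.mem_B.1 hg
    refine ⟨s, ?_⟩
    by_cases h : s * s = 1
    · rcases Tw.units_sq h with rfl | rfl
      · rw [map_one, mul_one] at h3 ⊢
        rw [eq_one_of_pow (P.pow_nine hu) h3]
      · obtain ⟨t, v, w, rfl⟩ := P.mem_U.1 hu
        have h4 : (P.X t v w * P.h (-1)) ^ 2 = 1 :=
          eq_one_of_pow (p := 3) (k := 2) (P.pow_nine (P.sq_J t v w ▸ P.X_mem _ _ _))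
            fun h => h3 (h.trans (orderOf_pow_dvd 2))
        rw [P.sq_J, P.X_eq_one] at h4
        have h5 : P.X (-t) 0 (t ^ 2 * P.θ t - w) * P.X t (t * P.θ t) (w - t ^ 2 * P.θ t + t ^ 2 * P.θ t) = 1 := by
          rw [P.mul, P.X_eq_one, map_neg]; refine ⟨?_, ?_, ?_⟩ <;> ring
        refine (isConj_iff.2 ⟨P.X (-t) 0 (t ^ 2 * P.θ t - w), ?_⟩).symm
        rw [inv_eq_of_mul_eq_one_right h5, mul_assoc, ← inv_mul_cancel_right (P.h (-1) * _) (P.h (-1)), P.conj,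
          ← mul_assoc, P.mul]
        simp only [Units.val_neg, Units.val_one, map_neg, map_one]
        congr 2 <;> grind
    · exact (P.exists_conj_h h hu).exists.elim fun y e => isConj_iff.2 ⟨y.1⁻¹, by rwa [inv_inv]⟩

theorem mix_Ree {G : Type*} [Group G] [Finite G] (h : Cfsg.Lie.IsoRee G) : Mix 3 G := by
  obtain ⟨F, _, _, m, hm, hF, ⟨e⟩⟩ := h
  have hF' := Nat.card_eq_fintype_card.trans hF
  haveI : CharP F 3 := charP_of_card_eq_prime_pow hF
  haveI := Finite.of_equiv _ e.toEquiv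
  obtain ⟨P⟩ := Tw.exists_rbn hF'
  refine (sbRee P ?_).mix.congr e
  by_contra! h
  have h1 := Polynomial.card_le_degree_of_subset_roots (p := (Polynomial.X ^ 3 - Polynomial.X : Polynomial F))
    (Z := Finset.univ) fun x _ => (Polynomial.mem_roots (FiniteField.X_pow_card_sub_X_ne_zero F (by norm_num))).2 (by
      simp [h x])
  rw [FiniteField.X_pow_card_sub_X_natDegree_eq F (by norm_num), Finset.card_univ, hF] at h1
  have := Nat.pow_le_pow_right three_pos (show 3 ≤ 2 * m + 1 by omega)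
  omega

end Cfsg.Agent.AH
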